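import Mathlib.Analysis.SpecialFunctions.Log.Base
import Mathlib.Analysis.SpecialFunctions.Pow.Real
import Mathlib.Analysis.Complex.ExponentialBounds
import Mathlib.Tactic.IntervalCases
import Mathlib.Tactic.NormNum.Prime

/-!
Arithmetic used in the lower bound for the class number in terms of a prime dividing the index of
the Fitting subgroup.
-/

set_option autoImplicit false

namespace Cfsg.Agent.ClassPrime

theorem sq_four_le_two_pow : ∀ t : ℕ, 5 ≤ t → 4 * (t + 1) ^ 2 + 4 ≤ 6 * 2 ^ t := by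
  intro t ht
  induction t, ht using Nat.le_induction with
  | base => norm_num
  | succ t ht ih =>
    have h2 : 2 ^ (t + 1) = 2 * 2 ^ t := by ring
    rw [h2]; nlinarith

theorem log_mul_self_succ (d : ℕ) (hd : 1 ≤ d) :
    Nat.log 2 (d * d) + 1 ≤ 2 * (Nat.log 2 d + 1) := by
  have h2 : d < 2 ^ (Nat.log 2 d + 1) := Nat.lt_pow_succ_log_self (by norm_num) d
  have h3 : d * d < 2 ^ (2 * (Nat.log 2 d + 1)) := by
    rw [two_mul, pow_add]; exact Nat.mul_lt_mul'' h2 h2
  exact Nat.log_lt_of_lt_pow (by positivity) h3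

/-- The bound for one block. -/
theorem block_bound (d : ℕ) (hd : 1 ≤ d) :
    (d * d) ^ (Nat.log 2 (d * d) + 1) ≤ 2 ^ (6 * d - 4) ∨ d = 1 := by
  by_cases hs : d < 32
  · interval_cases d <;> first | (right; rfl) | (left; decide +kernel)
  · left
    set e := Nat.log 2 (d * d)
    have ht : 5 ≤ Nat.log 2 d := Nat.le_log_of_pow_le (by norm_num) (by omega)
    have he : e + 1 ≤ 2 * (Nat.log 2 d + 1) := log_mul_self_succ d hd
    have hlt : d * d ≤ 2 ^ (e + 1) := (Nat.lt_pow_succ_log_self (by norm_num) _).le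
    have hd2 : 2 ^ Nat.log 2 d ≤ d := Nat.pow_log_le_self 2 (by omega)
    have hq := sq_four_le_two_pow _ ht
    have hsq : (e + 1) * (e + 1) ≤ 4 * (Nat.log 2 d + 1) ^ 2 :=
      (Nat.mul_le_mul he he).trans (le_of_eq (by ring))
    calc (d * d) ^ (e + 1) ≤ (2 ^ (e + 1)) ^ (e + 1) := Nat.pow_le_pow_left hlt _
      _ = 2 ^ ((e + 1) * (e + 1)) := (pow_mul _ _ _).symm
      _ ≤ 2 ^ (6 * d - 4) := Nat.pow_le_pow_right (by norm_num) (by omega)

/-- The bound for a regular normal subgroup. -/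
theorem regular_bound (n : ℕ) (hn : 1 ≤ n) : n * n ^ Nat.log 2 n ≤ 4 ^ (n - 1) := by
  rw [← pow_succ']
  by_cases hs : n < 32
  · interval_cases n <;> decide +kernel
  · set e := Nat.log 2 n
    have ht : 5 ≤ e := Nat.le_log_of_pow_le (by norm_num) (by omega)
    have hlt : n ≤ 2 ^ (e + 1) := (Nat.lt_pow_succ_log_self (by norm_num) _).le
    have hd2 : 2 ^ e ≤ n := Nat.pow_log_le_self 2 (by omega)
    have hq := sq_four_le_two_pow _ ht
    calc n ^ (e + 1) ≤ (2 ^ (e + 1)) ^ (e + 1) := Nat.pow_le_pow_left hlt _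
      _ = 2 ^ ((e + 1) * (e + 1)) := (pow_mul _ _ _).symm
      _ ≤ 2 ^ (2 * (n - 1)) := Nat.pow_le_pow_right (by norm_num) (by
          have : (e + 1) * (e + 1) * 4 = 4 * (e + 1) ^ 2 := by ring
          omega)
      _ = 4 ^ (n - 1) := by rw [pow_mul]; norm_num

open Real in
/-- The bound when the automiser of the cyclic section is small. -/
theorem small_automiser {p g k : ℕ} (hp : 2 ≤ p) (hg : 0 < g)
    (hgp : (g : ℝ) ≤ 3 * logb 2 p) (hk : p - 1 + g ≤ g * k) :
    (p : ℝ) / (3 * logb 2 p) ≤ k := by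
  have hL : 1 ≤ logb 2 (p : ℝ) := by
    rw [le_logb_iff_rpow_le (by norm_num) (by positivity)]
    simpa using (Nat.cast_le (α := ℝ)).2 hp
  have hk' : ((p : ℝ) - 1) + g ≤ g * k := by
    have h : (((p - 1 + g : ℕ)) : ℝ) ≤ ((g * k : ℕ) : ℝ) := Nat.cast_le.2 hk
    push_cast [Nat.cast_sub (by omega : 1 ≤ p)] at h
    exact h
  have hg' : (0 : ℝ) < g := by exact_mod_cast hg
  have hp' : (2 : ℝ) ≤ p := by exact_mod_cast hp
  rw [div_le_iff₀ (by linarith)]
  have h1 : (1 : ℝ) ≤ k := by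
    have : ((p : ℝ) - 1) + g ≤ g * k := hk'
    nlinarith
  nlinarith [mul_le_mul_of_nonneg_right hgp (sub_nonneg.2 h1)]

open Real in
/-- The bound when the automiser of the cyclic section is large. -/
theorem large_automiser {p g k : ℕ} (hp : 4 ≤ p)
    (hgp : 3 * logb 2 (p : ℝ) < g) (hk : 2 ^ g ≤ (g * k) ^ 3) :
    (p : ℝ) / (3 * logb 2 p) ≤ k := by
  set L := logb 2 (p : ℝ) with hLdef
  have hp0 : (0 : ℝ) < p := by exact_mod_cast (show 0 < p by omega)
  have hL : 2 ≤ L := by
    rw [hLdef, le_logb_iff_rpow_le (by norm_num) hp0]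
    have h4 : ((4 : ℕ) : ℝ) ≤ p := Nat.cast_le.2 hp
    norm_num at h4 ⊢; exact_mod_cast h4
  have hg : (0 : ℝ) < g := by linarith
  have hpe : (2 : ℝ) ^ L = p := rpow_logb (by norm_num) (by norm_num) hp0
  have hgk : (2 : ℝ) ^ ((g : ℝ) / 3) ≤ g * k := by
    refine le_of_pow_le_pow_left₀ (by norm_num : (3 : ℕ) ≠ 0) (by positivity) ?_
    rw [← rpow_natCast ((2 : ℝ) ^ ((g : ℝ) / 3)), ← rpow_mul (by norm_num),
      show (g : ℝ) / 3 * ((3 : ℕ) : ℝ) = (g : ℝ) by norm_num, rpow_natCast]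
    exact_mod_cast hk
  set t := (g : ℝ) / (3 * L) with ht
  have ht1 : 1 ≤ t := by rw [ht, le_div_iff₀ (by linarith)]; linarith
  have hexp : (g : ℝ) / 3 = L + L * (t - 1) := by rw [ht]; field_simp; ring
  have h2 : t ≤ (2 : ℝ) ^ (L * (t - 1)) := by
    rw [rpow_def_of_pos (by norm_num)]
    refine le_trans ?_ (Real.add_one_le_exp _)
    have hlog := Real.log_two_gt_d9
    have : 1 ≤ Real.log 2 * L := by nlinarith
    nlinarith [mul_le_mul_of_nonneg_right this (sub_nonneg.2 ht1)]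
  rw [hexp, rpow_add (by norm_num), hpe] at hgk
  have h3 : (p : ℝ) * t ≤ g * k := le_trans (mul_le_mul_of_nonneg_left h2 hp0.le) hgk
  rw [div_le_iff₀ (by linarith)]
  rw [ht, ← mul_div_assoc, div_le_iff₀ (by linarith)] at h3
  nlinarith

theorem two_pow_pred_le : ∀ e : ℕ, 5 ≤ e → 12 * (e + 1) ≤ 3 * 2 ^ e := by
  intro e he
  induction e, he using Nat.le_induction with
  | base => norm_num
  | succ e he ih => rw [pow_succ]; omega

open Real in
/-- Small primes: at most two classes are needed below `31`, at most four below `64`. -/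
theorem small_prime_two {p : ℕ} (hp : p.Prime) (h : p < 30) :
    (p : ℝ) / (3 * logb 2 p) ≤ 2 := by
  have hp2 := hp.two_le
  have hL : 0 < logb 2 (p : ℝ) := logb_pos (by norm_num) (by exact_mod_cast hp.one_lt)
  rw [div_le_iff₀ (by linarith)]
  have key : ∀ a b : ℕ, 0 < b → 2 ^ a ≤ p ^ b → (a : ℝ) / b ≤ logb 2 p := by
    intro a b hb hab
    have ha : logb 2 ((2 : ℝ) ^ a) = a := by rw [logb_pow, logb_self_eq_one (by norm_num), mul_one]
    rw [div_le_iff₀ (by exact_mod_cast hb), mul_comm, ← logb_pow, ← ha]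
    refine logb_le_logb_of_le (by norm_num) (by positivity) ?_
    exact_mod_cast hab
  by_cases h6 : p ≤ 6
  · have := key 1 1 one_pos (by simpa using hp2)
    have hR : (p : ℝ) ≤ 6 := by exact_mod_cast h6
    norm_num at this; linarith
  by_cases h12 : p ≤ 12
  · have := key 2 1 one_pos (by simp; omega)
    have hR : (p : ℝ) ≤ 12 := by exact_mod_cast h12
    norm_num at this; linarith
  by_cases h18 : p ≤ 18
  · have := key 3 1 one_pos (by simp; omega)
    have hR : (p : ℝ) ≤ 18 := by exact_mod_cast h18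
    norm_num at this; linarith
  by_cases h24 : p ≤ 24
  · have := key 4 1 one_pos (by simp; omega)
    have hR : (p : ℝ) ≤ 24 := by exact_mod_cast h24
    norm_num at this; linarith
  by_cases h27 : p ≤ 27
  · have := key 9 2 (by norm_num) (by nlinarith)
    have hR : (p : ℝ) ≤ 27 := by exact_mod_cast h27
    norm_num at this; linarith
  have h28 : p ≠ 28 := fun e => by subst e; norm_num at hp
  obtain rfl : p = 29 := by omega
  have := key 29 6 (by norm_num) (by norm_num)
  norm_num at this ⊢; linarith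

open Real in
theorem small_prime_four {p : ℕ} (h30 : 30 ≤ p) (h : p < 64) :
    (p : ℝ) / (3 * logb 2 p) ≤ 4 := by
  have hL : (4 : ℝ) ≤ logb 2 (p : ℝ) := by
    rw [le_logb_iff_rpow_le (by norm_num) (by exact_mod_cast (show 0 < p by omega))]
    have : ((16 : ℕ) : ℝ) ≤ p := Nat.cast_le.2 (by omega)
    norm_num at this ⊢; exact this
  rw [div_le_iff₀ (by linarith)]
  by_cases h48 : p ≤ 48
  · have : (p : ℝ) ≤ 48 := by exact_mod_cast h48
    linarith
  · have hL5 : (11 / 2 : ℝ) ≤ logb 2 (p : ℝ) := by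
      have h1 : logb 2 ((2 : ℝ) ^ 11) ≤ logb 2 ((p : ℝ) ^ 2) := by
        refine logb_le_logb_of_le (by norm_num) (by positivity) ?_
        have : ((2 ^ 11 : ℕ) : ℝ) ≤ ((p ^ 2 : ℕ) : ℝ) := Nat.cast_le.2 (by
          have : 49 ≤ p := by omega
          nlinarith)
        push_cast at this; norm_num at this ⊢; exact this
      rw [logb_pow, logb_pow, logb_self_eq_one (by norm_num)] at h1
      norm_num at h1; linarith
    have : (p : ℝ) ≤ 64 := by exact_mod_cast h.le
    linarith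

end Cfsg.Agent.ClassPrime
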