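import Cfsg.Agent.Lib.Char.Clifford
import Cfsg.Agent.Lib.Char.Complete
import Mathlib.GroupTheory.FiniteAbelian.Duality
import Mathlib.RingTheory.RootsOfUnity.AlgebraicallyClosed
import Mathlib.Analysis.Complex.Polynomial.Basic

/-!
Class number from characters over a character of order `p` of an abelian normal subgroup.
-/

set_option autoImplicit false
set_option linter.style.haveILetI false

open scoped commutatorElement

namespace Cfsg.Agent.ClassPrime

universe u

open Cfsg Cfsg.Agent.Char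

theorem card_dual (Q : Type*) [CommGroup Q] [Finite Q] : Nat.card (Q →* ℂˣ) = Nat.card Q := by
  haveI : NeZero ((Monoid.exponent Q : ℕ) : ℂ) :=
    ⟨Nat.cast_ne_zero.2 Monoid.exponent_ne_zero_of_finite⟩
  exact CommGroup.card_monoidHom_of_hasEnoughRootsOfUnity Q ℂ

/-- Most characters of an abelian group are non-trivial on an element of prime order. -/
theorem card_dual_ne_one (Q : Type*) [CommGroup Q] [Finite Q] {p : ℕ} [hp : Fact p.Prime] {a : Q}
    (ha : orderOf a = p) :
    (p - 1) * Nat.card Q ≤ p * Nat.card {f : Q →* ℂˣ // f a ≠ 1} := by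
  classical
  haveI : Finite (Q →* ℂˣ) := Nat.finite_of_card_ne_zero (by rw [card_dual]; exact Nat.card_pos.ne')
  set Z := Subgroup.zpowers a
  have hone : Nat.card {f : Q →* ℂˣ // f a = 1} ≤ Nat.card (Q ⧸ Z) := by
    rw [← card_dual (Q ⧸ Z)]
    haveI : Finite ((Q ⧸ Z) →* ℂˣ) := Nat.finite_of_card_ne_zero (by
      rw [card_dual]; exact Nat.card_pos.ne')
    refine Nat.card_le_card_of_injective
      (fun f => QuotientGroup.lift Z f.1 (Subgroup.zpowers_le.2 (MonoidHom.mem_ker.2 f.2)))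
      fun f g hfg => Subtype.ext (MonoidHom.ext fun x => ?_)
    exact DFunLike.congr_fun hfg (x : Q ⧸ Z)
  have hsplit : Nat.card (Q →* ℂˣ) =
      Nat.card {f : Q →* ℂˣ // f a = 1} + Nat.card {f : Q →* ℂˣ // f a ≠ 1} := by
    rw [← Nat.card_sum]
    exact (Nat.card_congr (Equiv.sumCompl _)).symm
  have hQ : Nat.card Q = Nat.card (Q ⧸ Z) * p := by
    rw [Z.card_eq_card_quotient_mul_card_subgroup, Nat.card_zpowers, ha]
  rw [card_dual, hQ] at hsplit
  rw [hQ]
  obtain ⟨m, rfl⟩ : ∃ m, p = m + 1 := ⟨p - 1, by have := hp.out.pos; omega⟩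
  rw [Nat.add_sub_cancel]
  calc m * (Nat.card (Q ⧸ Z) * (m + 1)) = (m + 1) * (Nat.card (Q ⧸ Z) * m) := by ring
    _ ≤ _ := Nat.mul_le_mul_left _ (by rw [Nat.mul_add, mul_one] at hsplit; omega)

set_option maxHeartbeats 800000 in
/-- The characters over the non-principal characters of `A / A0`. -/
theorem char_count {H : Type u} [Group H] [Finite H] {A A0 : Subgroup H} [hAn : A.Normal]
    (h0 : A0 ≤ A) {a : H} (haA : a ∈ A) {p : ℕ} [hp : Fact p.Prime] (hap : a ^ p = 1)
    (hgen : ∀ x ∈ A, ∃ j : ℕ, x * (a ^ j)⁻¹ ∈ A0) {C1 H1 : Subgroup H}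
    (hC1 : ∀ h, h ∈ C1 ↔ ∀ x ∈ A, ⁅h, x⁆ ∈ A0) (hH1 : ∀ h, (∀ x, x ∈ A0 ↔ h * x * h⁻¹ ∈ A0) → h ∈ H1)
    (hC1n : (C1.subgroupOf H1).Normal) (hAC : A ≤ C1)
    {K B D : Subgroup C1} [hKn : K.Normal] [hBn : B.Normal] (hK0 : A0.subgroupOf C1 ≤ K)
    (hKa : (⟨a, hAC haA⟩ : C1) ∉ K) (hKB : K ≤ B) (haB : (⟨a, hAC haA⟩ : C1) ∈ B) (hBD : B ≤ D)
    (hcomm : ∀ d ∈ D, ∀ b ∈ B, ⁅d, b⁆ ∈ K) :
    (p - 1) * K.relIndex B + p * (C1.relIndex H1 * D.index) ≤
      p * (C1.relIndex H1 * D.index) * Nat.card (ConjClasses H) := by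
  classical
  haveI : Fintype H := Fintype.ofFinite H
  haveI : Fintype A := Fintype.ofFinite A
  haveI : Fintype C1 := Fintype.ofFinite C1
  haveI : Fintype B := Fintype.ofFinite B
  haveI : (K.subgroupOf B).Normal := hKn.subgroupOf B
  letI : CommGroup (B ⧸ K.subgroupOf B) :=
    { (inferInstance : Group (B ⧸ K.subgroupOf B)) with
      mul_comm := fun x y => by
        induction x using QuotientGroup.induction_on with
        | H x =>
        induction y using QuotientGroup.induction_on with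
        | H y =>
        rw [← QuotientGroup.mk_mul, ← QuotientGroup.mk_mul, QuotientGroup.eq,
          Subgroup.mem_subgroupOf]
        have h := hcomm _ (hBD (B.inv_mem y.2)) _ (B.inv_mem x.2)
        simpa [commutatorElement_def, mul_assoc] using h }
  set aB : B := ⟨⟨a, hAC haA⟩, haB⟩ with haBdef
  have hord : orderOf (aB : (B ⧸ K.subgroupOf B)) = p := by
    refine orderOf_eq_prime ?_ fun h => hKa ?_
    · rw [← QuotientGroup.mk_pow, QuotientGroup.eq_one_iff, Subgroup.mem_subgroupOf]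
      convert K.one_mem
      exact Subtype.ext hap
    · rwa [QuotientGroup.eq_one_iff, Subgroup.mem_subgroupOf] at h
  let F := {f : (B ⧸ K.subgroupOf B) →* ℂˣ // f (aB : (B ⧸ K.subgroupOf B)) ≠ 1}
  have hAB : ∀ x : A, (⟨x, hAC x.2⟩ : C1) ∈ B := by
    rintro ⟨x, hx⟩
    obtain ⟨j, hj⟩ := hgen x hx
    have e : (⟨x, hAC hx⟩ : C1) = ⟨x * (a ^ j)⁻¹, hAC (h0 hj)⟩ * (⟨a, hAC haA⟩ : C1) ^ j :=
      Subtype.ext (by simp)
    rw [e]
    exact B.mul_mem (hKB (hK0 hj)) (B.pow_mem haB j)
  let inc : A →* B := (MonoidHom.mk' (fun x : A => (⟨x, hAC x.2⟩ : C1)) (fun _ _ => rfl)).codRestrict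
    B hAB
  let lam : F → B →* ℂˣ := fun f => f.1.comp (QuotientGroup.mk' _)
  let th : F → A →* ℂˣ := fun f => (lam f).comp inc
  have hlam_inj : Function.Injective fun f : F => fun b : B => ((lam f b : ℂˣ) : ℂ) := by
    intro f g hfg
    refine Subtype.ext (MonoidHom.ext fun q => ?_)
    induction q using QuotientGroup.induction_on with
    | H b => exact Units.ext (congrFun hfg b)
  have hth0 : ∀ (f : F) (x : A), (x : H) ∈ A0 → th f x = 1 := by
    intro f x hx
    change f.1 ((inc x : B) : (B ⧸ K.subgroupOf B)) = 1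
    have hm : (inc x : B) ∈ K.subgroupOf B := hK0 hx
    rw [(QuotientGroup.eq_one_iff _).2 hm, map_one]
  have hker : ∀ (f : F) (x : A), th f x = 1 → (x : H) ∈ A0 := by
    intro f x hx
    obtain ⟨j, hj⟩ := hgen x x.2
    have e : x = ⟨(x : H) * (a ^ j)⁻¹, h0 hj⟩ * ⟨a, haA⟩ ^ j := Subtype.ext (by simp)
    rw [e, map_mul, hth0 f _ hj, one_mul, map_pow] at hx
    have hb : f.1 (aB : (B ⧸ K.subgroupOf B)) ^ j = 1 := hx
    have hbp : f.1 (aB : (B ⧸ K.subgroupOf B)) ^ p = 1 := by
      rw [← map_pow, ← hord, pow_orderOf_eq_one, map_one]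
    have hord2 : orderOf (f.1 (aB : (B ⧸ K.subgroupOf B))) = p := orderOf_eq_prime hbp f.2
    obtain ⟨k, rfl⟩ := hord2 ▸ orderOf_dvd_of_pow_eq_one hb
    rw [pow_mul, hap, one_pow, inv_one, mul_one] at hj
    exact hj
  have hlirr : ∀ f : F, Cfsg.IsIrrCharacter B fun b => ((lam f b : ℂˣ) : ℂ) := fun f =>
    isIrrCharacter_linear (lam f)
  have htirr : ∀ f : F, Cfsg.IsIrrCharacter A fun x => ((th f x : ℂˣ) : ℂ) := fun f =>
    isIrrCharacter_linear (th f)
  -- a character of `C1` over each `lam f`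
  have hex : ∀ f : F, ∃ ψ : Cfsg.IrrCharacter C1,
      Cfsg.classInner (fun b : B => (ψ : C1 → ℂ) b) (fun b => ((lam f b : ℂˣ) : ℂ)) ≠ 0 := by
    intro f
    have hc := isCharacter_indFun B (IsIrrCharacter.isCharacter (hlirr f))
    obtain ⟨ψ, hψ⟩ := IsCharacter.exists_constituent hc fun h => by
      have h1 := congrFun h 1
      rw [indFun_one_apply, Pi.zero_apply, mul_eq_zero] at h1
      exact h1.elim (Nat.cast_ne_zero.2 Subgroup.index_ne_zero_of_finite) (Units.ne_zero _)
    refine ⟨ψ, ?_⟩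
    rw [classInner_indFun_left B _
      (IsCharacter.isClassFunction (IsIrrCharacter.isCharacter ψ.2))] at hψ
    rw [← classInner_conj_symm]
    simpa using hψ
  choose ps hps using hex
  -- `C1` fixes the characters `th f`, and restriction to `A` is homogeneous
  have hthc : ∀ (f : F) (c : H), c ∈ C1 → ∀ x : A, th f ⟨c * x * c⁻¹, hAn.conj_mem x x.2 c⟩ = th f x := by
    intro f c hc x
    have h := hth0 f ⟨⁅c, (x : H)⁆, h0 ((hC1 c).1 hc x x.2)⟩ ((hC1 c).1 hc x x.2)
    have e : (⟨c * x * c⁻¹, hAn.conj_mem x x.2 c⟩ : A) =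
        ⟨⁅c, (x : H)⁆, h0 ((hC1 c).1 hc x x.2)⟩ * x :=
      Subtype.ext (by simp [commutatorElement_def])
    rw [e, map_mul, h, one_mul]
  have hres : ∀ f : F, Cfsg.classInner
      (fun x : A => (ps f : C1 → ℂ) ⟨(x : H), hAC x.2⟩) (fun x => ((th f x : ℂˣ) : ℂ)) ≠ 0 := by
    intro f
    have hcl := clifford B (ps f).2 (hlirr f) (hps f)
    have hfun : (fun x : A => (ps f : C1 → ℂ) ⟨(x : H), hAC x.2⟩) =
        (ps f : C1 → ℂ) 1 • fun x => ((th f x : ℂˣ) : ℂ) := by
      have hval : ∀ x : A, (ps f : C1 → ℂ) ⟨(x : H), hAC x.2⟩ =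
          Cfsg.classInner (fun b : B => (ps f : C1 → ℂ) b) (fun b => ((lam f b : ℂˣ) : ℂ)) *
            ((conjOrbit B fun b => ((lam f b : ℂˣ) : ℂ)).card : ℂ) * ((th f x : ℂˣ) : ℂ) := by
        intro x
        have h1 := congrFun hcl (inc x)
        simp only [Pi.smul_apply, Finset.sum_apply, smul_eq_mul] at h1
        refine h1.trans ?_
        rw [Finset.sum_congr rfl fun φ hφ => show φ (inc x) = ((th f x : ℂˣ) : ℂ) by
          obtain ⟨c, rfl⟩ := (mem_conjOrbit B).1 hφ
          refine congrArg Units.val ((congrArg (lam f) ?_).trans (hthc f c c.2 x))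
          exact Subtype.ext (Subtype.ext rfl), Finset.sum_const, nsmul_eq_mul, mul_assoc]
      funext x
      have h1 := hval 1
      rw [map_one, Units.val_one, mul_one] at h1
      rw [hval x, Pi.smul_apply, smul_eq_mul]
      congr 1
      rw [← h1]
      rfl
    rw [hfun, classInner_smul_left, classInner_self_irr (htirr f), mul_one]
    exact IsIrrCharacter.one_ne_zero (ps f).2
  have hinert : ∀ f : F, C1 = inertia A fun x => ((th f x : ℂˣ) : ℂ) := by
    intro f
    ext c
    rw [mem_inertia_iff, hC1]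
    refine ⟨fun hc x => congrArg Units.val (hthc f c ((hC1 c).2 hc) x), fun hc x hx => ?_⟩
    have hm : ⁅c, x⁆ ∈ A := by
      rw [commutatorElement_def]; exact A.mul_mem (hAn.conj_mem x hx c) (A.inv_mem hx)
    refine hker f ⟨_, hm⟩ ?_
    have e : (⟨⁅c, x⁆, hm⟩ : A) = ⟨c * x * c⁻¹, hAn.conj_mem x hx c⟩ * ⟨x, hx⟩⁻¹ :=
      Subtype.ext (by simp [commutatorElement_def])
    rw [e, map_mul, map_inv, Units.ext (hc ⟨x, hx⟩), mul_inv_cancel]
  have hcor := fun f : F => clifford_correspondence A (htirr f) (hinert f) hAC (ps f).2 (hres f)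
  haveI : Finite ((B ⧸ K.subgroupOf B) →* ℂˣ) := Nat.finite_of_card_ne_zero (by rw [card_dual]; exact Nat.card_pos.ne')
  haveI : Fintype F := Fintype.ofFinite F
  let chi : F → Cfsg.IrrCharacter H := fun f => ⟨_, (hcor f).1⟩
  -- first fibres
  set S := Finset.univ.image ps with hS
  have hfib1 : Nat.card F ≤ D.index * S.card := by
    rw [Nat.card_eq_fintype_card]
    refine Finset.card_le_mul_card_image Finset.univ D.index fun ψ hψ => ?_
    obtain ⟨f, -, rfl⟩ := Finset.mem_image.1 hψ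
    have hle : D ≤ inertia B fun b => ((lam f b : ℂˣ) : ℂ) := by
      intro d hd
      rw [mem_inertia_iff]
      intro b
      refine congrArg Units.val ?_
      have hm : ⁅d, (b : C1)⁆ ∈ K := hcomm d hd b b.2
      have e : (⟨d * b * d⁻¹, hBn.conj_mem b b.2 d⟩ : B) = ⟨_, hKB hm⟩ * b :=
        Subtype.ext (by simp [commutatorElement_def])
      rw [e, map_mul]
      have h1 : lam f ⟨_, hKB hm⟩ = 1 := by
        change f.1 (_ : (B ⧸ K.subgroupOf B)) = 1
        have hm' : (⟨_, hKB hm⟩ : B) ∈ K.subgroupOf B := Subgroup.mem_subgroupOf.2 hm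
        exact (congrArg f.1 ((QuotientGroup.eq_one_iff _).2 hm')).trans (map_one f.1)
      rw [h1, one_mul]
    calc _ ≤ (conjOrbit B fun b => ((lam f b : ℂˣ) : ℂ)).card := by
          refine Finset.card_le_card_of_injOn (fun g => fun b => ((lam g b : ℂˣ) : ℂ)) ?_
            hlam_inj.injOn
          intro g hg
          have hg' : ps g = ps f := (Finset.mem_filter.1 hg).2
          exact restrict_constituent_conj B (ps f).2 (hlirr f) (hlirr g) (hps f) (hg' ▸ hps g)
      _ = (inertia B fun b => ((lam f b : ℂˣ) : ℂ)).index := card_conjOrbit B _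
      _ ≤ D.index := Nat.le_of_dvd (Nat.pos_of_ne_zero Subgroup.index_ne_zero_of_finite)
          (Subgroup.index_dvd_of_le hle)
  -- second fibres
  let indS : Cfsg.IrrCharacter C1 → H → ℂ := fun ψ => Cfsg.indFun C1 (ψ : C1 → ℂ)
  have hfib2 : S.card ≤ C1.relIndex H1 * (Finset.univ.image chi).card := by
    have h := Finset.card_le_mul_card_image (f := indS) S (C1.relIndex H1) fun χ hχ => ?_
    · refine h.trans (Nat.mul_le_mul_left _ (le_of_eq ?_))
      rw [hS, Finset.image_image,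
        ← Finset.card_image_of_injective (Finset.univ.image chi) Subtype.val_injective,
        Finset.image_image]
      rfl
    · obtain ⟨ψ, hψS, rfl⟩ := Finset.mem_image.1 hχ
      obtain ⟨f, -, rfl⟩ := Finset.mem_image.1 hψS
      haveI : Finite (H1 ⧸ C1.subgroupOf H1) := inferInstance
      haveI : Fintype (H1 ⧸ C1.subgroupOf H1) := Fintype.ofFinite _
      let vals : Finset (A → ℂ) := Finset.univ.image fun q : H1 ⧸ C1.subgroupOf H1 =>
        conjChar A ((Quotient.out q : H1) : H) fun x => ((th f x : ℂˣ) : ℂ)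
      have hvals : vals.card ≤ C1.relIndex H1 := by
        refine Finset.card_image_le.trans (le_of_eq ?_)
        rw [Finset.card_univ, ← Nat.card_eq_fintype_card]; rfl
      refine le_trans ?_ hvals
      have hmemS : ∀ ψ ∈ S.filter (fun ψ => indS ψ = indS (ps f)), ∃ g, ps g = ψ ∧
          indS (ps g) = indS (ps f) := by
        intro ψ hψ
        rw [Finset.mem_filter] at hψ
        obtain ⟨g, -, hg⟩ := Finset.mem_image.1 hψ.1
        exact ⟨g, hg, hg ▸ hψ.2⟩
      haveI : Nonempty F := ⟨f⟩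
      choose! w hw using hmemS
      refine Finset.card_le_card_of_injOn (fun ψ => fun x => ((th (w ψ) x : ℂˣ) : ℂ)) ?_ ?_
      · intro ψ hψ
        obtain ⟨-, hw2⟩ := hw ψ hψ
        have hne2 : Cfsg.classInner (fun x : A => indS (ps f) x)
            (fun x => ((th (w ψ) x : ℂˣ) : ℂ)) ≠ 0 := by
          rw [← hw2]
          exact fun h => hres (w ψ) ((hcor (w ψ)).2 ▸ h)
        have hne1 : Cfsg.classInner (fun x : A => indS (ps f) x)
            (fun x => ((th f x : ℂˣ) : ℂ)) ≠ 0 := fun h => hres f ((hcor f).2 ▸ h)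
        obtain ⟨h, hh⟩ := (mem_conjOrbit A).1
          (restrict_constituent_conj A (hcor f).1 (htirr f) (htirr (w ψ)) hne1 hne2)
        have hmem : ∀ x : A, (x : H) ∈ A0 ↔ h * x * h⁻¹ ∈ A0 := by
          intro x
          have hx : th (w ψ) x = th f ⟨h * x * h⁻¹, hAn.conj_mem x x.2 h⟩ :=
            Units.ext (congrFun hh x)
          exact ⟨fun hm => hker f ⟨_, _⟩ (hx ▸ hth0 (w ψ) x hm),
            fun hm => hker (w ψ) x (hx.trans (hth0 f ⟨_, _⟩ hm))⟩
        have hH : h ∈ H1 := by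
          refine hH1 h fun x => ?_
          refine ⟨fun hx => (hmem ⟨x, h0 hx⟩).1 hx, fun hx => ?_⟩
          have hxA : x ∈ A := by simpa [mul_assoc] using hAn.conj_mem _ (h0 hx) h⁻¹
          exact (hmem ⟨x, hxA⟩).2 hx
        rw [Finset.mem_coe, Finset.mem_image]
        refine ⟨((⟨h, hH⟩ : H1) : H1 ⧸ C1.subgroupOf H1), Finset.mem_univ _, ?_⟩
        obtain ⟨⟨c, hc⟩, hce⟩ := QuotientGroup.mk_out_eq_mul (C1.subgroupOf H1) ⟨h, hH⟩
        have hcC : ((c : H1) : H) ∈ C1 := hc
        rw [hce]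
        change conjChar A (h * ((c : H1) : H)) _ = _
        -- move `c` to the left, where it fixes the character
        have hc' : h * ((c : H1) : H) * h⁻¹ ∈ C1 := hC1n.conj_mem c hc ⟨h, hH⟩
        rw [show h * ((c : H1) : H) = (h * ((c : H1) : H) * h⁻¹) * h by group, conjChar_mul]
        have hfix : conjChar A (h * ((c : H1) : H) * h⁻¹) (fun x => ((th f x : ℂˣ) : ℂ)) =
            fun x => ((th f x : ℂˣ) : ℂ) := funext fun x => congrArg Units.val (hthc f _ hc' x)
        rw [hfix]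
        exact hh.symm
      · intro ψ hψ ψ' hψ' heq
        obtain ⟨hw1, hw2⟩ := hw ψ (Finset.mem_coe.1 hψ)
        obtain ⟨hw1', hw2'⟩ := hw ψ' (Finset.mem_coe.1 hψ')
        rw [← hw1, ← hw1']
        refine Subtype.ext (clifford_correspondence_injective A (htirr (w ψ)) (hinert _) hAC
          (ps (w ψ)).2 (ps (w ψ')).2 (hres _) ?_ (hw2.trans hw2'.symm))
        have heq' : (fun x : A => ((th (w ψ) x : ℂˣ) : ℂ)) =
          fun x => ((th (w ψ') x : ℂˣ) : ℂ) := heq
        rw [heq']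
        exact hres _
  -- the principal character is missed
  have hnp : principal H ∉ Finset.univ.image chi := by
    intro hmem
    obtain ⟨f, -, hf⟩ := Finset.mem_image.1 hmem
    have h1 : (fun x : A => Cfsg.indFun C1 (ps f : C1 → ℂ) x) = fun _ => 1 :=
      funext fun x => congrFun (congrArg Subtype.val hf) (x : H)
    have h2 := (hcor f).2
    rw [h1, classInner_irr isIrrCharacter_one (htirr f), if_neg] at h2
    · exact hres f h2.symm
    · intro h
      refine f.2 ?_
      exact Units.val_eq_one.1 (congrFun h ⟨a, haA⟩).symm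
  have himg : (Finset.univ.image chi).card + 1 ≤ Nat.card (ConjClasses H) := by
    rw [← card_irrCharacter, Nat.card_eq_fintype_card, ← Finset.card_insert_of_notMem hnp]
    exact Finset.card_le_univ _
  have hF := card_dual_ne_one (B ⧸ K.subgroupOf B) hord
  have hQ : Nat.card (B ⧸ K.subgroupOf B) = K.relIndex B := rfl
  rw [hQ] at hF
  calc (p - 1) * K.relIndex B + p * (C1.relIndex H1 * D.index)
      ≤ p * (D.index * (C1.relIndex H1 * (Finset.univ.image chi).card)) +
          p * (C1.relIndex H1 * D.index) :=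
        Nat.add_le_add_right (hF.trans (Nat.mul_le_mul_left _
          (hfib1.trans (Nat.mul_le_mul_left _ hfib2)))) _
    _ = p * (C1.relIndex H1 * D.index) * ((Finset.univ.image chi).card + 1) := by ring
    _ ≤ _ := Nat.mul_le_mul_left _ himg

end Cfsg.Agent.ClassPrime
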