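import Cfsg.Agent.Lib.ClassPrime.LinearIndex
import Mathlib.GroupTheory.PGroup
import Mathlib.RingTheory.IntegralDomain
import Mathlib.FieldTheory.Minpoly.Finite
import Mathlib.FieldTheory.Minpoly.Field
import Mathlib.FieldTheory.Finiteness
import Mathlib.FieldTheory.Finite.Basic
import Mathlib.FieldTheory.IsAlgClosed.AlgebraicClosure
import Mathlib.LinearAlgebra.Matrix.ToLin
import Mathlib.Algebra.CharP.Algebra

/-!
The index bound on each irreducible component of the module of a group with a central element of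
prime order acting without fixed vectors, and its product over a decomposition.
-/

set_option autoImplicit false
set_option linter.style.haveILetI false
set_option linter.unusedSectionVars false

open scoped commutatorElement
open Module Polynomial

namespace Cfsg.Agent.ClassPrime

universe u v

variable {r : ℕ} [hr : Fact r.Prime] {T : Type u} [Group T] [Finite T] {V : Type v} [AddCommGroup V]
  [Module (ZMod r) V] [Finite V] (σ : T →* Module.End (ZMod r) V) (a : T)

/-- The kernel of the action on a subspace. -/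
def kerOn (S : Submodule (ZMod r) V) : Subgroup T where
  carrier := {t | ∀ v ∈ S, σ t v = v}
  one_mem' := fun v _ => by rw [map_one]; rfl
  mul_mem' := fun {x y} hx hy v hv => by rw [map_mul, Module.End.mul_apply, hy v hv, hx v hv]
  inv_mem' := fun {x} hx v hv => by
    conv_lhs => rw [← hx v hv]
    rw [← Module.End.mul_apply, ← map_mul, inv_mul_cancel, map_one]; rfl

theorem mem_kerOn {S : Submodule (ZMod r) V} {t : T} : t ∈ kerOn σ S ↔ ∀ v ∈ S, σ t v = v :=
  Iff.rfl

/-- The data to be produced on an invariant subspace. -/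
def Good (S : Submodule (ZMod r) V) : Prop :=
  ∃ (D B : Subgroup T) (P : (ZMod r)[X]), D.Normal ∧ B.Normal ∧ B ≤ D ∧ a ∈ B ∧ kerOn σ S ≤ B ∧
    (∀ d ∈ D, ∀ b ∈ B, ⁅d, b⁆ ∈ kerOn σ S) ∧ P ≠ 0 ∧ (∀ v ∈ S, aeval (σ a) P v = 0) ∧
    4 ^ P.natDegree * (D.index ^ 2 * B.relIndex D) ^ 3 ≤ Nat.card S ^ 3

theorem good_bot : Good σ a (⊥ : Submodule (ZMod r) V) := by
  refine ⟨⊤, ⊤, 1, inferInstance, inferInstance, le_refl _, Subgroup.mem_top _, le_top,
    fun d _ b _ v hv => ?_, one_ne_zero, fun v hv => ?_, ?_⟩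
  · rw [(Submodule.mem_bot _).1 hv, map_zero]
  · rw [(Submodule.mem_bot _).1 hv, map_zero]
  · rw [natDegree_one, Subgroup.index_top, Subgroup.relIndex_self]
    have : Nat.card (⊥ : Submodule (ZMod r) V) = 1 := Nat.card_unique
    simp

theorem good_sup {S W : Submodule (ZMod r) V} (hdis : Disjoint S W) (hS : Good σ a S)
    (hW : Good σ a W) : Good σ a (S ⊔ W) := by
  obtain ⟨D, B, P, hDn, hBn, hBD, haB, hKB, hcomm, hP0, hP, hbd⟩ := hS
  obtain ⟨D', B', P', hDn', hBn', hBD', haB', hKB', hcomm', hP0', hP', hbd'⟩ := hW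
  have hker : ∀ t, t ∈ kerOn σ (S ⊔ W) ↔ t ∈ kerOn σ S ∧ t ∈ kerOn σ W := fun t => by
    refine ⟨fun h => ⟨fun v hv => h v (le_sup_left (b := W) hv), fun v hv => h v (le_sup_right (a := S) hv)⟩,
      fun h v hv => ?_⟩
    obtain ⟨x, hx, y, hy, rfl⟩ := Submodule.mem_sup.1 hv
    rw [map_add, h.1 x hx, h.2 y hy]
  refine ⟨D ⊓ D', B ⊓ B', P * P', inferInstance, inferInstance, inf_le_inf hBD hBD', ⟨haB, haB'⟩,
    fun t ht => ⟨hKB ((hker t).1 ht).1, hKB' ((hker t).1 ht).2⟩,
    fun d hd b hb => (hker _).2 ⟨hcomm d hd.1 b hb.1, hcomm' d hd.2 b hb.2⟩,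
    mul_ne_zero hP0 hP0', fun v hv => ?_, ?_⟩
  · obtain ⟨x, hx, y, hy, rfl⟩ := Submodule.mem_sup.1 hv
    rw [map_add]
    conv_lhs =>
      congr
      · rw [mul_comm P P', aeval_mul, Module.End.mul_apply, hP x hx, map_zero]
      · rw [aeval_mul, Module.End.mul_apply, hP' y hy, map_zero]
    exact add_zero 0
  · have hcard : Nat.card (S ⊔ W : Submodule (ZMod r) V) = Nat.card S * Nat.card W := by
      rw [← Nat.card_prod]
      refine (Nat.card_eq_of_bijective
        (fun x : S × W => (⟨x.1 + x.2, add_mem (le_sup_left (b := W) x.1.2) (le_sup_right (a := S) x.2.2)⟩ :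
          (S ⊔ W : Submodule (ZMod r) V))) ⟨fun x y hxy => ?_, fun z => ?_⟩).symm
      · have h := congrArg Subtype.val hxy
        simp only at h
        have h1 : (x.1 : V) - y.1 = y.2 - x.2 := by
          rw [sub_eq_sub_iff_add_eq_add, h]; abel
        have h2 : (x.1 : V) - y.1 = 0 :=
          Submodule.disjoint_def.1 hdis _ (S.sub_mem x.1.2 y.1.2) (h1 ▸ W.sub_mem y.2.2 x.2.2)
        rw [h2] at h1
        exact Prod.ext (Subtype.ext (sub_eq_zero.1 h2)) (Subtype.ext (sub_eq_zero.1 h1.symm).symm)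
      · obtain ⟨x, hx, y, hy, he⟩ := Submodule.mem_sup.1 z.2
        exact ⟨(⟨x, hx⟩, ⟨y, hy⟩), Subtype.ext he⟩
    have hidx : (D ⊓ D').index ≤ D.index * D'.index := Subgroup.index_inf_le
    have hrel : (B ⊓ B').relIndex (D ⊓ D') ≤ B.relIndex D * B'.relIndex D' := by
      refine Subgroup.relIndex_inf_le.trans (Nat.mul_le_mul ?_ ?_)
      · exact Subgroup.relIndex_le_of_le_right inf_le_left Subgroup.index_ne_zero_of_finite
      · exact Subgroup.relIndex_le_of_le_right inf_le_right Subgroup.index_ne_zero_of_finite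
    rw [hcard, natDegree_mul hP0 hP0', pow_add, mul_pow (Nat.card S)]
    calc 4 ^ P.natDegree * 4 ^ P'.natDegree * ((D ⊓ D').index ^ 2 * (B ⊓ B').relIndex (D ⊓ D')) ^ 3
        ≤ 4 ^ P.natDegree * 4 ^ P'.natDegree *
            ((D.index * D'.index) ^ 2 * (B.relIndex D * B'.relIndex D')) ^ 3 :=
          Nat.mul_le_mul_left _ (Nat.pow_le_pow_left
            (Nat.mul_le_mul (Nat.pow_le_pow_left hidx 2) hrel) 3)
      _ = (4 ^ P.natDegree * (D.index ^ 2 * B.relIndex D) ^ 3) *
            (4 ^ P'.natDegree * (D'.index ^ 2 * B'.relIndex D') ^ 3) := by ring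
      _ ≤ _ := Nat.mul_le_mul hbd hbd'

/-- An irreducible invariant subspace. -/
def IrrInv (W : Submodule (ZMod r) V) : Prop :=
  W ≠ ⊥ ∧ (∀ t, ∀ v ∈ W, σ t v ∈ W) ∧
    ∀ U : Submodule (ZMod r) V, U ≤ W → (∀ t, ∀ v ∈ U, σ t v ∈ U) → U = ⊥ ∨ U = W

/-- The restriction of the action to an invariant subspace. -/
noncomputable def restr {W : Submodule (ZMod r) V} (hW : ∀ t, ∀ v ∈ W, σ t v ∈ W) :
    T →* Module.End (ZMod r) W where
  toFun t := (σ t).restrict (hW t)
  map_one' := LinearMap.ext fun v => Subtype.ext (by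
    change σ 1 v = v
    rw [map_one]; rfl)
  map_mul' x y := LinearMap.ext fun v => Subtype.ext (by
    change σ (x * y) v = σ x (σ y v)
    rw [map_mul]; rfl)

section field

variable {σ a}

/-- The polynomials in the central element. -/
noncomputable abbrev algA {W : Submodule (ZMod r) V} (hW : IrrInv σ W) :
    Subalgebra (ZMod r) (Module.End (ZMod r) W) :=
  Algebra.adjoin (ZMod r) {restr σ hW.2.1 a}

theorem algA_comm {W : Submodule (ZMod r) V} (hW : IrrInv σ W)
    (hcen : ∀ t, σ t * σ a = σ a * σ t) (x : algA (a := a) hW) (t : T) :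
    restr σ hW.2.1 t * (x : Module.End (ZMod r) W) = (x : Module.End (ZMod r) W) * restr σ hW.2.1 t := by
  obtain ⟨x, hx⟩ := x
  induction hx using Algebra.adjoin_induction with
  | mem y hy =>
    rw [Set.mem_singleton_iff] at hy
    subst hy
    refine LinearMap.ext fun v => Subtype.ext ?_
    exact LinearMap.congr_fun (hcen t) (v : V)
  | algebraMap c => exact (Algebra.commutes c _).symm
  | add y z _ _ hy hz => rw [mul_add, add_mul, hy, hz]
  | mul y z _ _ hy hz => rw [← mul_assoc, hy, mul_assoc, hz, mul_assoc]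

theorem algA_isField {W : Submodule (ZMod r) V} (hW : IrrInv σ W)
    (hcen : ∀ t, σ t * σ a = σ a * σ t) : IsField (algA (a := a) hW) := by
  haveI : Nontrivial W := (Submodule.nontrivial_iff_ne_bot).2 hW.1
  haveI : Finite (Module.End (ZMod r) W) := Finite.of_injective _ DFunLike.coe_injective
  letI : CommRing (algA (a := a) hW) := inferInstance
  have hinj : ∀ x : algA (a := a) hW, x ≠ 0 →
      Function.Injective (x : Module.End (ZMod r) W) := by
    intro x hx
    rw [← LinearMap.ker_eq_bot]
    let U : Submodule (ZMod r) V := (LinearMap.ker (x : Module.End (ZMod r) W)).map W.subtype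
    have hU : ∀ t, ∀ v ∈ U, σ t v ∈ U := by
      rintro t _ ⟨w, hw, rfl⟩
      refine ⟨restr σ hW.2.1 t w, ?_, rfl⟩
      have h := LinearMap.congr_fun (algA_comm hW hcen x t) w
      simp only [Module.End.mul_apply] at h
      rw [SetLike.mem_coe, LinearMap.mem_ker] at hw ⊢
      rw [← h, hw, map_zero]
    rcases hW.2.2 U (Submodule.map_subtype_le _ _) hU with h | h
    · exact Submodule.map_injective_of_injective Subtype.val_injective
        (h.trans (Submodule.map_bot _).symm)
    · refine absurd (Subtype.ext (LinearMap.ext fun w => ?_)) hx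
      obtain ⟨u, hu, he⟩ := (h.symm ▸ w.2 : (w : V) ∈ U)
      obtain rfl : u = w := Subtype.ext he
      exact hu
  haveI : NoZeroDivisors (algA (a := a) hW) := ⟨fun {x y} hxy => by
    by_contra h
    push Not at h
    refine h.2 (Subtype.ext (LinearMap.ext fun w => hinj x h.1 ?_))
    rw [← Module.End.mul_apply, show (x : Module.End (ZMod r) W) * y = 0 from congrArg Subtype.val hxy]
    exact ((x : Module.End (ZMod r) W).map_zero).symm⟩
  haveI : IsDomain (algA (a := a) hW) := NoZeroDivisors.to_isDomain _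
  exact Finite.isField_of_domain _

theorem aeval_restr {W : Submodule (ZMod r) V} (hW : ∀ t, ∀ v ∈ W, σ t v ∈ W) (t : T)
    (P : (ZMod r)[X]) (v : W) :
    ((aeval (restr σ hW t) P v : W) : V) = aeval (σ t) P v := by
  induction P using Polynomial.induction_on generalizing v with
  | C c => simp [Module.algebraMap_end_apply]
  | add p q hp hq => simp [hp, hq]
  | monomial n c ih =>
    simp only [pow_succ, ← mul_assoc, map_mul, aeval_X, Module.End.mul_apply] at ih ⊢
    rw [ih]
    rfl

/-- The powers of the central element that are roots of a polynomial killing it. -/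
theorem card_roots_le {W : Submodule (ZMod r) V} (hW : IrrInv σ W)
    (hcen : ∀ t, σ t * σ a = σ a * σ t) {P : (ZMod r)[X]} (hP0 : P ≠ 0) {ι : Type*} [Finite ι]
    (e : ι → ℕ) (hroot : ∀ i, ∀ v ∈ W, aeval (σ (a ^ e i)) P v = 0)
    (hdist : ∀ i j, (∀ v ∈ W, σ (a ^ e i) v = σ (a ^ e j) v) → i = j) :
    Nat.card ι ≤ P.natDegree := by
  classical
  letI : Field (algA (a := a) hW) := (algA_isField hW hcen).toField
  let ω : algA (a := a) hW := ⟨restr σ hW.2.1 a, Algebra.self_mem_adjoin_singleton _ _⟩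
  haveI := Fintype.ofFinite ι
  have hmem : ∀ i, ω ^ e i ∈ (P.map (algebraMap (ZMod r) (algA (a := a) hW))).roots := by
    intro i
    rw [mem_roots (map_ne_zero hP0), IsRoot.def, eval_map_algebraMap]
    refine Subtype.ext (LinearMap.ext fun v => Subtype.ext ?_)
    rw [← Subalgebra.coe_val, ← Polynomial.aeval_algHom_apply]
    rw [map_pow, Subalgebra.coe_val, ← map_pow, aeval_restr, hroot i v v.2]
    rfl
  have hinj : Function.Injective fun i => ω ^ e i := by
    intro i j hij
    refine hdist i j fun v hv => ?_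
    have h := congrArg (fun x : algA (a := a) hW => ((x : Module.End (ZMod r) W) ⟨v, hv⟩ : V)) hij
    simp only [SubmonoidClass.coe_pow] at h
    rw [← map_pow, ← map_pow] at h
    exact h
  have hsub : Finset.univ.image (fun i => ω ^ e i) ⊆
      (P.map (algebraMap (ZMod r) (algA (a := a) hW))).roots.toFinset := by
    intro x hx
    obtain ⟨i, -, rfl⟩ := Finset.mem_image.1 hx
    exact Multiset.mem_toFinset.2 (hmem i)
  rw [Nat.card_eq_fintype_card, ← Finset.card_univ, ← Finset.card_image_of_injective _ hinj]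
  exact ((Finset.card_le_card hsub).trans (Multiset.toFinset_card_le _)).trans
    ((card_roots' _).trans natDegree_map_le)

end field

set_option maxHeartbeats 800000 in
/-- The index bound over a finite field with at least `64` elements. -/
theorem field_bound {K : Type*} [Field K] [Finite K] (hq : 2 ^ 6 ≤ Nat.card K) {W : Type*}
    [AddCommGroup W] [Module K W] [Finite W] [Nontrivial W] (hsol : Group.IsSolvable T)
    (τ : T →* Module.End K W)
    (hirr : ∀ U : Submodule K W, (∀ t, ∀ v ∈ U, τ t v ∈ U) → U = ⊥ ∨ U = ⊤)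
    (hcen : ∀ t, τ t * τ a = τ a * τ t) :
    ∃ D B : Subgroup T, D.Normal ∧ B.Normal ∧ B ≤ D ∧ a ∈ B ∧ τ.ker ≤ B ∧
      (∀ d ∈ D, ∀ b ∈ B, ⁅d, b⁆ ∈ τ.ker) ∧
      (Nat.card K) ^ 2 * (D.index ^ 2 * B.relIndex D) ^ 3 ≤ Nat.card W ^ 3 := by
  classical
  obtain ⟨ℓ, hℓK⟩ := CharP.exists K
  haveI hℓ : Fact ℓ.Prime := ⟨(CharP.char_is_prime_or_zero K ℓ).resolve_right
    (CharP.char_ne_zero_of_finite K ℓ)⟩
  haveI : Module.Finite K W := Module.Finite.of_finite
  set s := finrank K W with hsdef
  have hs : 1 ≤ s := Module.finrank_pos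
  set q := Nat.card K with hqdef
  have hWq : Nat.card W = q ^ s := Module.natCard_eq_pow_finrank (K := K)
  let L := AlgebraicClosure K
  let b := Module.finBasis K W
  let f : Module.End K W →* Module.End L (Fin s → L) :=
    ((Matrix.toLinAlgEquiv' : Matrix (Fin s) (Fin s) L ≃ₐ[L] _).toMulEquiv.toMonoidHom.comp
      ((algebraMap K L).mapMatrix : Matrix (Fin s) (Fin s) K →+* Matrix (Fin s) (Fin s) L).toMonoidHom).comp
      (algEquivMatrix b : Module.End K W ≃ₐ[K] _).toMulEquiv.toMonoidHom
  have hf : Function.Injective f := fun x y h =>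
    (algEquivMatrix b).injective
      (Matrix.map_injective (algebraMap K L).injective (Matrix.toLinAlgEquiv'.injective h))
  let ρ' : T →* Module.End L (Fin s → L) := f.comp τ
  let Q := T ⧸ τ.ker
  let ρ : Q →* Module.End L (Fin s → L) :=
    QuotientGroup.lift τ.ker ρ' fun t ht => by
      change f (τ t) = 1
      rw [MonoidHom.mem_ker.1 ht, map_one]
  have hρ : Function.Injective ρ := by
    rw [injective_iff_map_eq_one]
    intro x hx
    induction x using QuotientGroup.induction_on with
    | H t => exact (QuotientGroup.eq_one_iff t).2 (MonoidHom.mem_ker.2 (hf (hx.trans (map_one f).symm)))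
  haveI : CharP L ℓ := charP_of_injective_algebraMap (algebraMap K L).injective ℓ
  haveI : Group.IsSolvable Q :=
    Group.isSolvable_of_surjective (QuotientGroup.mk'_surjective τ.ker)
  obtain ⟨D, B, hDn, hBn, hBD, hcenDB, hbound⟩ := linear_index (L := L) inferInstance
    (by rw [Module.finrank_fintype_fun_eq_card, Fintype.card_fin]; exact hs) ρ hρ (by
    intro A hAn hAc hA0
    have hdvd : ℓ ∣ Nat.card A := (CharP.cast_eq_zero_iff L ℓ _).1 hA0
    let R : Subgroup Q :=
      { carrier := {x | x ∈ A ∧ x ^ ℓ = 1}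
        one_mem' := ⟨A.one_mem, one_pow ℓ⟩
        mul_mem' := by
          rintro x y ⟨hx, hx'⟩ ⟨hy, hy'⟩
          exact ⟨A.mul_mem hx hy, by rw [Commute.mul_pow (setLike_mul_comm hx hy), hx', hy', one_mul]⟩
        inv_mem' := by
          rintro x ⟨hx, hx'⟩
          exact ⟨A.inv_mem hx, by rw [inv_pow, hx', inv_one]⟩ }
    have hRp : IsPGroup ℓ R := fun x => ⟨1, Subtype.ext (by rw [pow_one]; exact x.2.2)⟩
    obtain ⟨y, hy⟩ := exists_prime_orderOf_dvd_card' ℓ hdvd
    have hyR : (y : Q) ∈ R := ⟨y.2, by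
      have h := pow_orderOf_eq_one y
      rw [hy] at h
      exact congrArg Subtype.val h⟩
    let ρW : Q →* Module.End K W := QuotientGroup.lift τ.ker τ fun t ht => MonoidHom.mem_ker.1 ht
    letI : MulAction R W :=
      { smul := fun x w => ρW x w
        one_smul := fun w => by
          change ρW ((1 : R) : Q) w = w
          rw [Subgroup.coe_one, map_one]; rfl
        mul_smul := fun x z w => by
          change ρW ((x * z : R) : Q) w = ρW x (ρW z w)
          rw [Subgroup.coe_mul, map_mul]; rfl }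
    let U : Submodule K W :=
      { carrier := {v | ∀ x : R, ρW x v = v}
        zero_mem' := fun x => map_zero (ρW x)
        add_mem' := fun {v w} hv hw x => by rw [map_add, hv x, hw x]
        smul_mem' := fun c v hv x => by rw [map_smul, hv x] }
    have hUinv : ∀ t, ∀ v ∈ U, τ t v ∈ U := by
      intro t v hv x
      have hx' : (t : Q)⁻¹ * x * t ∈ R := by
        refine ⟨?_, ?_⟩
        · have h := hAn.conj_mem _ x.2.1 (t : Q)⁻¹
          rw [inv_inv] at h
          exact h
        rw [show ((t : Q)⁻¹ * x * t) = (t : Q)⁻¹ * x * ((t : Q)⁻¹)⁻¹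
          by rw [inv_inv], conj_pow, x.2.2, mul_one, mul_inv_cancel]
      change ρW x (ρW (t : Q) v) = ρW (t : Q) v
      conv_rhs => rw [← hv ⟨_, hx'⟩]
      change _ = ρW (t : Q) (ρW ((t : Q)⁻¹ * x * t) v)
      rw [← Module.End.mul_apply, ← Module.End.mul_apply, ← map_mul, ← map_mul]
      congr 2
      group
    have hdvdW : ℓ ∣ Nat.card W := by
      rw [hWq]
      refine dvd_pow ?_ (by omega)
      haveI : Fintype K := Fintype.ofFinite K
      obtain ⟨k, -, hk⟩ := FiniteField.card K ℓ
      rw [hqdef, Nat.card_eq_fintype_card, hk]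
      exact dvd_pow_self ℓ k.ne_zero
    obtain ⟨w, hwfix, hw0⟩ := hRp.exists_fixed_point_of_prime_dvd_card_of_fixed_point W hdvdW
      (a := 0) (fun x => map_zero (ρW x))
    have hwU : w ∈ U := fun x => hwfix x
    rcases hirr U hUinv with h | h
    · rw [h, Submodule.mem_bot] at hwU
      exact hw0 hwU.symm
    · have hy1 : (y : Q) ≠ 1 := fun h => hℓ.out.ne_one (by
        rw [← hy, show y = 1 from Subtype.ext h, orderOf_one])
      refine hy1 ?_
      obtain ⟨t, ht⟩ := QuotientGroup.mk_surjective (y : Q)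
      rw [← ht, QuotientGroup.eq_one_iff, MonoidHom.mem_ker]
      refine LinearMap.ext fun v => ?_
      have h3 : ρW (y : Q) v = v := (h ▸ Submodule.mem_top : v ∈ U) ⟨_, hyR⟩
      rw [← ht] at h3
      exact h3)
  rw [Module.finrank_fintype_fun_eq_card, Fintype.card_fin] at hbound
  set π := QuotientGroup.mk' τ.ker with hπ
  have hπs := QuotientGroup.mk'_surjective τ.ker
  have hcenq : ∀ x : Q, x * π a = π a * x := by
    intro x
    obtain ⟨t, rfl⟩ := hπs x
    refine commutatorElement_eq_one_iff_mul_comm.1 ?_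
    rw [← map_commutatorElement]
    refine (QuotientGroup.eq_one_iff _).2 (MonoidHom.mem_ker.2 ?_)
    rw [commutatorElement_def, map_mul, map_mul, map_mul, hcen t, mul_assoc (τ a), ← map_mul τ t,
      mul_inv_cancel, map_one, mul_one, ← map_mul, mul_inv_cancel, map_one]
  haveI := hDn
  haveI := hBn
  haveI : (Subgroup.zpowers (π a)).Normal := ⟨fun x hx g => by
    obtain ⟨k, rfl⟩ := Subgroup.mem_zpowers_iff.1 hx
    rw [((show Commute g (π a) from hcenq g).zpow_right k).eq, mul_inv_cancel_right]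
    exact Subgroup.zpow_mem _ (Subgroup.mem_zpowers _) k⟩
  let B' := B ⊔ Subgroup.zpowers (π a)
  let D' := D ⊔ Subgroup.zpowers (π a)
  have hBD' : B' ≤ D' := sup_le_sup_right hBD _
  have hcomm' : ∀ d ∈ D', ∀ b ∈ B', d * b = b * d := by
    intro d hd b hb
    obtain ⟨d₀, hd₀, z, hz, rfl⟩ := Subgroup.mem_sup_of_normal_right.1 hd
    obtain ⟨b₀, hb₀, y, hy, rfl⟩ := Subgroup.mem_sup_of_normal_right.1 hb
    obtain ⟨i, rfl⟩ := Subgroup.mem_zpowers_iff.1 hz
    obtain ⟨j, rfl⟩ := Subgroup.mem_zpowers_iff.1 hy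
    have h1 : Commute d₀ b₀ := hcenDB d₀ hd₀ b₀ hb₀
    have h2 : ∀ x : Q, ∀ k : ℤ, Commute x (π a ^ k) := fun x k =>
      (show Commute x (π a) from hcenq x).zpow_right k
    exact ((h1.mul_right (h2 d₀ j)).mul_left (((h2 b₀ i).symm).mul_right (h2 _ j))).eq
  have hD'n : D'.Normal := Subgroup.sup_normal D _
  have hB'n : B'.Normal := Subgroup.sup_normal B _
  refine ⟨D'.comap π, B'.comap π, hD'n.comap π, hB'n.comap π, Subgroup.comap_mono hBD', ?_, ?_, ?_, ?_⟩
  · exact Subgroup.mem_sup_right (Subgroup.mem_zpowers _)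
  · intro t ht
    rw [Subgroup.mem_comap, hπ, QuotientGroup.mk'_apply, (QuotientGroup.eq_one_iff t).2 ht]
    exact B'.one_mem
  · intro d hd b hb
    rw [← QuotientGroup.eq_one_iff, ← QuotientGroup.mk'_apply, ← hπ, map_commutatorElement,
      commutatorElement_eq_one_iff_mul_comm]
    exact hcomm' _ hd _ hb
  · rw [Subgroup.index_comap_of_surjective _ hπs,
      Subgroup.relIndex_comap, Subgroup.map_comap_eq_self_of_surjective hπs]
    have hIle : D'.index ^ 2 * B'.relIndex D' ≤ D.index ^ 2 * B.relIndex D := by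
      have e1 : B'.relIndex D' * D'.index = B'.index := Subgroup.relIndex_mul_index hBD'
      have e2 : B.relIndex D * D.index = B.index := Subgroup.relIndex_mul_index hBD
      have e3 : D'.index ≤ D.index :=
        Nat.le_of_dvd (Nat.pos_of_ne_zero Subgroup.index_ne_zero_of_finite)
          (Subgroup.index_dvd_of_le le_sup_left)
      have e4 : B'.index ≤ B.index :=
        Nat.le_of_dvd (Nat.pos_of_ne_zero Subgroup.index_ne_zero_of_finite)
          (Subgroup.index_dvd_of_le le_sup_left)
      calc D'.index ^ 2 * B'.relIndex D' = D'.index * B'.index := by rw [← e1]; ring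
        _ ≤ D.index * B.index := Nat.mul_le_mul e3 e4
        _ = _ := by rw [← e2]; ring
    rw [hWq]
    calc q ^ 2 * (D'.index ^ 2 * B'.relIndex D') ^ 3
        ≤ q ^ 2 * (2 ^ (6 * s - 4)) ^ 3 :=
          Nat.mul_le_mul_left _ (Nat.pow_le_pow_left (hIle.trans hbound) 3)
      _ = q ^ 2 * (2 ^ 6) ^ (3 * s - 2) := by rw [← pow_mul, ← pow_mul]; congr 2; omega
      _ ≤ q ^ 2 * q ^ (3 * s - 2) := Nat.mul_le_mul_left _ (Nat.pow_le_pow_left hq _)
      _ = (q ^ s) ^ 3 := by rw [← pow_add, ← pow_mul]; congr 1; omega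

set_option maxHeartbeats 800000 in
/-- The irreducible case. -/
theorem good_irr (hsol : Group.IsSolvable T) {p : ℕ} [hp : Fact p.Prime] (hp64 : 64 ≤ p)
    (hap : a ^ p = 1) (hcen : ∀ t, σ t * σ a = σ a * σ t) {W : Submodule (ZMod r) V}
    (hW : IrrInv σ W) (hne : ∃ v ∈ W, σ a v ≠ v) : Good σ a W := by
  classical
  set τ := restr σ hW.2.1 with hτ
  set K := algA (a := a) hW with hK
  letI : Field K := (algA_isField hW hcen).toField
  haveI : Finite (Module.End (ZMod r) W) := Finite.of_injective _ DFunLike.coe_injective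
  haveI : Finite K := inferInstance
  haveI : Nontrivial W := (Submodule.nontrivial_iff_ne_bot).2 hW.1
  let ω : K := ⟨τ a, Algebra.self_mem_adjoin_singleton _ _⟩
  have hcomm : ∀ (x : K) (t : T) (w : W), τ t ((x : Module.End (ZMod r) W) w) =
      (x : Module.End (ZMod r) W) (τ t w) := fun x t w =>
    LinearMap.congr_fun (algA_comm hW hcen x t) w
  let τK : T →* Module.End K W :=
    { toFun := fun t =>
        { toFun := τ t
          map_add' := map_add _
          map_smul' := fun x w => hcomm x t w }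
      map_one' := LinearMap.ext fun w => by
        change τ 1 w = w
        rw [map_one]; rfl
      map_mul' := fun x y => LinearMap.ext fun w => by
        change τ (x * y) w = τ x (τ y w)
        rw [map_mul]; rfl }
  have hq : 2 ^ 6 ≤ Nat.card K := by
    have hω0 : ω ≠ 0 := by
      intro h
      have h1 : τ a * τ a⁻¹ = 1 := by rw [← map_mul, mul_inv_cancel, map_one]
      rw [show τ a = ((0 : K) : Module.End (ZMod r) W) from congrArg Subtype.val h,
        ZeroMemClass.coe_zero, zero_mul] at h1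
      exact zero_ne_one h1
    have hord : orderOf (Units.mk0 ω hω0) = p := by
      refine orderOf_eq_prime ?_ fun h => ?_
      · refine Units.ext (Subtype.ext ?_)
        rw [Units.val_pow_eq_pow_val, Units.val_one, Units.val_mk0, SubmonoidClass.coe_pow]
        change τ a ^ p = 1
        rw [← map_pow, hap, map_one]
      · obtain ⟨v, hv, hv'⟩ := hne
        apply hv'
        have h1 : τ a = 1 := congrArg Subtype.val (congrArg Units.val h)
        exact congrArg Subtype.val (LinearMap.congr_fun h1 ⟨v, hv⟩)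
    have hle : p ≤ Nat.card Kˣ := hord ▸ orderOf_le_card
    have hle2 : Nat.card Kˣ ≤ Nat.card K := Nat.card_le_card_of_injective _ Units.val_injective
    omega
  obtain ⟨D, B, hDn, hBn, hBD, haB, hKB, hcDB, hbd⟩ := field_bound a hq hsol τK
    (fun U hU => by
      let U' : Submodule (ZMod r) V := (U.restrictScalars (ZMod r)).map W.subtype
      have hU' : ∀ t, ∀ v ∈ U', σ t v ∈ U' := by
        rintro t _ ⟨w, hw, rfl⟩
        exact ⟨τK t w, hU t w hw, rfl⟩
      rcases hW.2.2 U' (Submodule.map_subtype_le _ _) hU' with h | h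
      · refine Or.inl ((Submodule.eq_bot_iff U).2 fun w hw => Subtype.ext ?_)
        have : (w : V) ∈ U' := ⟨w, hw, rfl⟩
        rw [h, Submodule.mem_bot] at this
        exact this
      · refine Or.inr (Submodule.eq_top_iff'.2 fun w => ?_)
        obtain ⟨u, hu, he⟩ := (h.symm ▸ w.2 : (w : V) ∈ U')
        obtain rfl : u = w := Subtype.ext he
        exact hu)
    (fun t => LinearMap.ext fun w => Subtype.ext (LinearMap.congr_fun (hcen t) (w : V)))
  have hkereq : τK.ker = kerOn σ W := by
    ext t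
    rw [MonoidHom.mem_ker]
    exact ⟨fun h v hv => congrArg Subtype.val (LinearMap.congr_fun h ⟨v, hv⟩),
      fun h => LinearMap.ext fun w => Subtype.ext (h w w.2)⟩
  rw [hkereq] at hKB hcDB
  refine ⟨D, B, minpoly (ZMod r) ω, hDn, hBn, hBD, haB, hKB, hcDB,
    minpoly.ne_zero (Algebra.IsIntegral.isIntegral ω), ?_, ?_⟩
  · intro v hv
    have h1 : aeval (τ a) (minpoly (ZMod r) ω) = 0 := by
      rw [show τ a = K.val ω from rfl, aeval_algHom_apply, minpoly.aeval, map_zero]
    have h2 := aeval_restr hW.2.1 a (minpoly (ZMod r) ω) ⟨v, hv⟩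
    rw [h1] at h2
    simpa using h2.symm
  · refine le_trans (Nat.mul_le_mul_right _ ?_) hbd
    haveI : Fintype K := Fintype.ofFinite K
    rw [Module.natCard_eq_pow_finrank (K := ZMod r) (V := K), Nat.card_zmod, ← pow_mul, mul_comm,
      pow_mul]
    refine (Nat.pow_le_pow_left (show 4 ≤ r ^ 2 by nlinarith [hr.out.two_le]) _).trans ?_
    exact Nat.pow_le_pow_right (pow_pos hr.out.pos 2) (minpoly.natDegree_le ω)

end Cfsg.Agent.ClassPrime
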