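import Cfsg.Agent.Lib.ClassPrime.SolvPerm
import Cfsg.Agent.Lib.Solvable.FrobeniusModule
import Mathlib.LinearAlgebra.Dual.Lemmas
import Mathlib.LinearAlgebra.LinearIndependent.Lemmas

/-!
A solvable linear group in coprime characteristic has a normal subgroup `D` and a subgroup `B`
central in `D` with `|C : D| ^ 2 * |D : B| ≤ 2 ^ (6 s - 4)`, `s` the dimension.
-/

set_option autoImplicit false
set_option linter.style.haveILetI false

open scoped commutatorElement
open Module

namespace Cfsg.Agent.ClassPrime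

universe u v w

/-- Eigen-characters of a family of operators are at most as many as the dimension. -/
theorem card_eigenchar_le {L : Type w} [Field L] {N : Type u} [Monoid N] {W : Type v}
    [AddCommGroup W] [Module L W] [FiniteDimensional L W] (φ : N → W →ₗ[L] W)
    (Λ : Set (N →* Lˣ)) (hΛ : ∀ l ∈ Λ, ∃ T : W, T ≠ 0 ∧ ∀ n, φ n T = ((l n : Lˣ) : L) • T) :
    Λ.Finite ∧ Nat.card Λ ≤ finrank L W := by
  classical
  choose! T hT0 hT using hΛ
  have hind : LinearIndependent L (fun l : Λ => T (l : N →* Lˣ)) := by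
    rw [linearIndependent_iff']
    intro s c hc i hi
    have hall : ∀ f : Module.Dual L W, c i * f (T i) = 0 := by
      intro f
      have hcomb : ∀ n : N, ∑ l ∈ s, (c l * f (T l)) * (((l : N →* Lˣ) n : Lˣ) : L) = 0 := by
        intro n
        have h1 := congrArg (fun x => f (φ n x)) hc
        simp only [map_sum, map_smul, map_zero] at h1
        rw [← h1]
        refine Finset.sum_congr rfl fun l _ => ?_
        rw [hT l l.2 n, map_smul, smul_eq_mul, smul_eq_mul]
        ring
      let J : Λ → N →* L := fun l => (Units.coeHom L).comp (l : N →* Lˣ)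
      have hJ : Function.Injective J := fun a b hab =>
        Subtype.ext (MonoidHom.ext fun n => Units.ext (DFunLike.congr_fun hab n))
      have hli := (linearIndependent_monoidHom N L).comp J hJ
      refine linearIndependent_iff'.1 hli s (fun l => c l * f (T l)) ?_ i hi
      funext n
      simpa [Finset.sum_apply, J] using hcomb n
    by_contra hci
    exact hT0 i i.2 ((Module.forall_dual_apply_eq_zero_iff L (T i)).1 fun f =>
      (mul_eq_zero.1 (hall f)).resolve_left hci)
  have hfin : Finite Λ := hind.finite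
  refine ⟨Set.toFinite Λ, ?_⟩
  have := Fintype.ofFinite Λ
  rw [Nat.card_eq_fintype_card]
  exact hind.fintype_card_le_finrank

theorem comm_mul_right {G : Type*} [Group G] (n x y : G) :
    ⁅n, x * y⁆ = ⁅n, x⁆ * (x * ⁅n, y⁆ * x⁻¹) := by
  simp [commutatorElement_def, mul_assoc]

theorem comm_mul_left {G : Type*} [Group G] (n m x : G) :
    ⁅n * m, x⁆ = (n * ⁅m, x⁆ * n⁻¹) * ⁅n, x⁆ := by
  simp [commutatorElement_def, mul_assoc]

set_option maxHeartbeats 800000 in
theorem linear_index {L : Type w} [Field L] [IsAlgClosed L] {C : Type u} [Group C] [Finite C]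
    (hsol : Group.IsSolvable C) {V : Type v} [AddCommGroup V] [Module L V] [FiniteDimensional L V]
    (hs : 1 ≤ finrank L V) (ρ : C →* Module.End L V) (hρ : Function.Injective ρ)
    (hchar : ∀ A : Subgroup C, A.Normal → IsMulCommutative A → (Nat.card A : L) ≠ 0) :
    ∃ D B : Subgroup C, D.Normal ∧ B.Normal ∧ B ≤ D ∧ (∀ d ∈ D, ∀ b ∈ B, d * b = b * d) ∧
      D.index ^ 2 * B.relIndex D ≤ 2 ^ (6 * finrank L V - 4) := by
  classical
  obtain ⟨A, -, hAmax⟩ := Finite.exists_le_maximal
    (p := fun K : Subgroup C => K.Normal ∧ IsMulCommutative K) (a := ⊥)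
    ⟨inferInstance, inferInstance⟩
  have hAn : A.Normal := hAmax.1.1
  have hAc : IsMulCommutative A := hAmax.1.2
  set D := Subgroup.centralizer (A : Set C) with hD
  have hDn : D.Normal := inferInstance
  have hcen : ∀ d ∈ D, ∀ a ∈ A, d * a = a * d := fun d hd a ha =>
    ((Subgroup.mem_centralizer_iff.1 hd) a ha).symm
  have hAD : A ≤ D := fun a ha => Subgroup.mem_centralizer_iff.2 fun b hb =>
    congrArg Subtype.val (hAc.1.comm ⟨b, hb⟩ ⟨a, ha⟩)
  refine ⟨D, A, hDn, hAn, hAD, hcen, ?_⟩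
  let _ : CommGroup A := { (inferInstance : Group A) with mul_comm := hAc.1.comm }
  haveI : Fintype A := Fintype.ofFinite A
  let τ : A →* Module.End L V := ρ.comp A.subtype
  have hAK : (Fintype.card A : L) ≠ 0 := by
    rw [← Nat.card_eq_fintype_card]; exact hchar A hAn hAc
  haveI : NeZero ((Monoid.exponent A : ℕ) : L) := ⟨fun h => hAK (by
    obtain ⟨d, hd⟩ := Group.exponent_dvd_nat_card (G := A)
    rw [← Nat.card_eq_fintype_card, hd, Nat.cast_mul, h, zero_mul])⟩
  haveI : Finite (A →* Lˣ) := Nat.finite_of_card_ne_zero (by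
    rw [CommGroup.card_monoidHom_of_hasEnoughRootsOfUnity A L]; exact Nat.card_pos.ne')
  haveI : Fintype (A →* Lˣ) := Fintype.ofFinite _
  obtain ⟨hsum, hmul⟩ := FrobeniusModule.idem_spec hAK τ
  set e := FrobeniusModule.idem τ with he
  have hact : ∀ (a : A) (χ : A →* Lˣ), τ a * e χ = ((χ a : Lˣ) : L) • e χ := fun a χ =>
    FrobeniusModule.idem_act τ χ a
  -- transport of the idempotents
  let cj : C → (A →* Lˣ) → (A →* Lˣ) := fun x χ => χ.comp (MulAut.conjNormal x⁻¹ : A ≃* A).toMonoidHom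
  have hcj : ∀ x χ (a : A), cj x χ a = χ ⟨x⁻¹ * a * x, by
      simpa using hAn.conj_mem a a.2 x⁻¹⟩ := by
    intro x χ a
    refine congrArg χ (Subtype.ext ?_)
    simp
  have hconj : ∀ x χ, ρ x * e χ = e (cj x χ) * ρ x := by
    intro x χ
    simp only [he, FrobeniusModule.idem, mul_smul_comm, smul_mul_assoc, Finset.mul_sum,
      Finset.sum_mul]
    congr 1
    refine Fintype.sum_equiv (MulAut.conjNormal x : A ≃* A).toEquiv _ _ fun a => ?_
    congr 1
    · rw [hcj]; congr 2; refine Subtype.ext ?_; simp [MulAut.conjNormal_apply, mul_assoc]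
    · change ρ x * ρ a = ρ _ * ρ x
      rw [← map_mul, ← map_mul]; congr 1; simp [MulAut.conjNormal_apply]
  have hunit : ∀ x, ρ x⁻¹ * ρ x = 1 := fun x => by rw [← map_mul, inv_mul_cancel, map_one]
  let X := {χ : A →* Lˣ // e χ ≠ 0}
  have hcjne : ∀ x (χ : X), e (cj x χ) ≠ 0 := by
    intro x χ h0
    apply χ.2
    have h1 := hconj x χ
    rw [h0, zero_mul] at h1
    calc e χ = ρ x⁻¹ * (ρ x * e χ) := by rw [← mul_assoc, hunit, one_mul]
      _ = 0 := by rw [h1, mul_zero]
  letI : MulAction C X :=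
    { smul := fun x χ => ⟨cj x χ, hcjne x χ⟩
      one_smul := fun χ => Subtype.ext (MonoidHom.ext fun a => by
        change cj 1 χ.1 a = χ.1 a
        rw [hcj]; congr 1; simp)
      mul_smul := fun x y χ => Subtype.ext (MonoidHom.ext fun a => by
        change cj (x * y) χ.1 a = cj x (cj y χ.1) a
        rw [hcj, hcj, hcj]; congr 1; simp [mul_assoc]) }
  -- the characters in `X` separate the elements of `A`
  have hsep : ∀ a b : A, (∀ χ : X, χ.1 a = χ.1 b) → a = b := by
    intro a b hab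
    refine Subtype.ext (hρ ?_)
    change τ a = τ b
    calc τ a = τ a * ∑ χ, e χ := by rw [hsum, mul_one]
      _ = τ b * ∑ χ, e χ := by
          rw [Finset.mul_sum, Finset.mul_sum]
          refine Finset.sum_congr rfl fun χ _ => ?_
          by_cases h : e χ = 0
          · simp [h]
          · rw [he, FrobeniusModule.idem_act, FrobeniusModule.idem_act, hab ⟨χ, h⟩]
      _ = τ b := by rw [hsum, mul_one]
  let φ : C →* Equiv.Perm X := MulAction.toPermHom C X
  have hkerD : φ.ker ≤ D := by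
    intro x hx
    refine Subgroup.mem_centralizer_iff.2 fun a ha => ?_
    have h1 : (⟨x⁻¹ * a * x, by simpa using hAn.conj_mem a ha x⁻¹⟩ : A) = ⟨a, ha⟩ := by
      refine hsep _ _ fun χ => ?_
      have h2 : x • χ = χ := Equiv.Perm.ext_iff.1 (MonoidHom.mem_ker.1 hx) χ
      rw [← hcj x χ.1 ⟨a, ha⟩]
      exact DFunLike.congr_fun (congrArg Subtype.val h2) ⟨a, ha⟩
    have h3 : x⁻¹ * a * x = a := congrArg Subtype.val h1
    calc a * x = x * (x⁻¹ * a * x) := by group
      _ = x * a := by rw [h3]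
  haveI : Fintype X := Fintype.ofFinite X
  have hDindex : D.index ≤ 4 ^ (Nat.card X - 1) := by
    refine (Nat.le_of_dvd (Nat.pos_of_ne_zero Subgroup.index_ne_zero_of_finite)
      (Subgroup.index_dvd_of_le hkerD)).trans ?_
    rw [Subgroup.index_ker]
    exact card_solvable_perm _ X φ.range
      (Group.isSolvable_of_surjective φ.rangeRestrict_surjective) rfl
  -- the eigenspaces
  let W : X → Submodule L V := fun χ => LinearMap.range (e χ.1)
  have hfix : ∀ (χ : X) (v : V), v ∈ W χ → e χ.1 v = v := by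
    rintro χ v ⟨u, rfl⟩
    rw [← Module.End.mul_apply, hmul, if_pos rfl]
  have hdim : ∑ χ : X, finrank L (W χ) = finrank L V := by
    rw [← Module.finrank_pi_fintype L]
    refine LinearEquiv.finrank_eq
      { toFun := fun f => ∑ χ : X, (f χ : V)
        map_add' := fun f g => by simp [Finset.sum_add_distrib]
        map_smul' := fun c f => by simp [Finset.smul_sum]
        invFun := fun v χ => ⟨e χ.1 v, LinearMap.mem_range_self _ _⟩
        left_inv := fun f => by
          funext χ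
          refine Subtype.ext ?_
          change e χ.1 (∑ ψ : X, (f ψ : V)) = f χ
          rw [map_sum, Finset.sum_eq_single χ]
          · exact hfix χ _ (f χ).2
          · intro ψ _ hne
            rw [← hfix ψ _ (f ψ).2, ← Module.End.mul_apply, hmul,
              if_neg (fun h => hne (Subtype.ext h.symm))]
            rfl
          · exact fun h => absurd (Finset.mem_univ _) h
        right_inv := fun v => by
          change ∑ χ : X, e χ.1 v = v
          conv_rhs => rw [← Module.End.one_apply (R := L) v, ← hsum, LinearMap.sum_apply]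
          refine (Finset.sum_subtype (Finset.univ.filter fun χ => e χ ≠ 0) (by simp)
            (fun χ => e χ v)).symm.trans (Finset.sum_filter_of_ne fun χ _ hne h0 => hne ?_)
          rw [h0]; rfl }
  have hWpos : ∀ χ : X, 1 ≤ finrank L (W χ) := fun χ =>
    Submodule.one_le_finrank_iff.2 fun h => χ.2 (LinearMap.range_eq_bot.1 h)
  have hDfix : ∀ x ∈ D, ∀ χ : A →* Lˣ, cj x χ = χ := fun x hx χ => MonoidHom.ext fun a => by
    rw [hcj]; congr 1; refine Subtype.ext ?_
    change x⁻¹ * a * x = a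
    rw [mul_assoc, ← hcen x hx a a.2, inv_mul_cancel_left]
  have hmaps : ∀ (d : D) (χ : X), ∀ v ∈ W χ, ρ d v ∈ W χ := by
    rintro d χ v ⟨u, rfl⟩
    exact ⟨ρ d u, by rw [← Module.End.mul_apply, ← Module.End.mul_apply, hconj, hDfix d d.2]⟩
  let π : ∀ χ : X, D →* Module.End L (W χ) := fun χ =>
    { toFun := fun d => (ρ d).restrict (hmaps d χ)
      map_one' := LinearMap.ext fun v => Subtype.ext (by
        change ρ ((1 : D) : C) v = v
        rw [Subgroup.coe_one, map_one]; rfl)
      map_mul' := fun a b => LinearMap.ext fun v => Subtype.ext (by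
        change ρ ((a * b : D) : C) v = ρ a (ρ b v)
        rw [Subgroup.coe_mul, map_mul]; rfl) }
  have hπA : ∀ (χ : X) (a : A), π χ ⟨a, hAD a.2⟩ = ((χ.1 a : Lˣ) : L) • 1 := by
    intro χ a
    refine LinearMap.ext fun v => Subtype.ext ?_
    change τ a v = ((χ.1 a : Lˣ) : L) • (v : V)
    conv_lhs => rw [← hfix χ _ v.2, ← Module.End.mul_apply, hact,
      LinearMap.smul_apply, hfix χ _ v.2]
  -- a maximal normal subgroup with abelian section over `A`
  obtain ⟨N, -, hNmax⟩ := Finite.exists_le_maximal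
    (p := fun K : Subgroup C => K.Normal ∧ A ≤ K ∧ K ≤ D ∧ ⁅K, K⁆ ≤ A) (a := A)
    ⟨hAn, le_refl A, hAD, Subgroup.commutator_le_left A A⟩
  obtain ⟨hNn, hAN, hND, hNN⟩ := hNmax.1
  have hCN : ∀ x ∈ D, (∀ n ∈ N, n * x = x * n) → x ∈ A := by
    set M := D ⊓ Subgroup.centralizer (N : Set C) with hM
    have hMn : M.Normal := inferInstance
    have hAM : A ≤ M := fun a ha => ⟨hAD ha, Subgroup.mem_centralizer_iff.2 fun n hn =>
      hcen n (hND hn) a ha⟩
    have hMN : M ⊓ N = A := by
      refine le_antisymm ?_ (le_inf hAM hAN)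
      refine hAmax.2 ⟨inferInstance, IsMulCommutative.of_setLike_mul_comm fun a ha b hb => ?_⟩
        (le_inf hAM hAN)
      exact ((Subgroup.mem_centralizer_iff.1 ha.1.2) b hb.2).symm
    suffices hMA : M ≤ A from fun x hx hxc =>
      hMA ⟨hx, Subgroup.mem_centralizer_iff.2 hxc⟩
    by_contra hMA
    obtain ⟨K, hKM, hK⟩ := Finite.exists_le_minimal
      (p := fun K : Subgroup C => K.Normal ∧ A ≤ K ∧ K ≤ M ∧ ¬ K ≤ A) (a := M)
      ⟨hMn, hAM, le_refl M, hMA⟩
    obtain ⟨hKn, hAK', -, hKA⟩ := hK.1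
    have hKK : ⁅K, K⁆ ≤ A := by
      by_contra hno
      have hle : ⁅K, K⁆ ⊔ A ≤ K := sup_le (Subgroup.commutator_le_self K) hAK'
      have hKeq : K ≤ ⁅K, K⁆ ⊔ A := hK.2
        ⟨inferInstance, le_sup_right, hle.trans hKM, fun h => hno (le_sup_left.trans h)⟩ hle
      haveI : (A : Subgroup C).Normal := hAn
      let f := QuotientGroup.mk' A
      have hbot : K.map f = ⁅K.map f, K.map f⁆ := by
        rw [← Subgroup.map_commutator]
        refine le_antisymm ((Subgroup.map_mono hKeq).trans ?_)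
          (Subgroup.map_mono (Subgroup.commutator_le_self K))
        rw [Subgroup.map_sup, QuotientGroup.map_mk'_self, sup_bot_eq]
      haveI : Group.IsSolvable (C ⧸ A) := Group.isSolvable_of_surjective (QuotientGroup.mk'_surjective A)
      have hne : K.map f ≠ ⊥ := fun h => hKA (by
        rwa [Subgroup.map_eq_bot_iff, QuotientGroup.ker_mk'] at h)
      haveI : Nontrivial (K.map f) := (Subgroup.nontrivial_iff_ne_bot _).2 hne
      have hlt := Subgroup.map_subtype_lt_map_subtype.2
        (Group.IsSolvable.commutator_lt_top_of_nontrivial (K.map f))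
      rw [Subgroup.map_subtype_commutator, ← MonoidHom.range_eq_map, Subgroup.range_subtype,
        ← hbot] at hlt
      exact lt_irrefl _ hlt
    have hNK : N ⊔ K ≤ D := sup_le hND ((hKM.trans inf_le_left))
    have hcomm : ⁅N ⊔ K, N ⊔ K⁆ ≤ A := by
      rw [Subgroup.commutator_le]
      intro x hx y hy
      obtain ⟨n, hn, k, hk, rfl⟩ := Subgroup.mem_sup_of_normal_right.1 hx
      obtain ⟨m, hm, l, hl, rfl⟩ := Subgroup.mem_sup_of_normal_right.1 hy
      have hkN : ∀ z ∈ N, ⁅k, z⁆ = 1 := fun z hz => commutatorElement_eq_one_iff_mul_comm.2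
        ((Subgroup.mem_centralizer_iff.1 (hKM hk).2) z hz).symm
      have hlN : ∀ z ∈ N, ⁅z, l⁆ = 1 := fun z hz => commutatorElement_eq_one_iff_mul_comm.2
        ((Subgroup.mem_centralizer_iff.1 (hKM hl).2) z hz)
      rw [comm_mul_right, comm_mul_left n k m, comm_mul_left n k l, hkN m hm, hlN n hn]
      have h1 := hNN (Subgroup.commutator_mem_commutator hn hm)
      have h2 := hKK (Subgroup.commutator_mem_commutator hk hl)
      simp only [mul_one, mul_inv_cancel, one_mul]
      exact A.mul_mem h1 (hAn.conj_mem _ (hAn.conj_mem _ h2 _) _)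
    have hKN : K ≤ N := le_sup_right.trans
      (hNmax.2 ⟨inferInstance, hAN.trans le_sup_left, hNK, hcomm⟩ le_sup_left)
    exact hKA ((le_inf hKM hKN).trans hMN.le)
  -- the subgroup centralising the section `N / A`
  let D1 : Subgroup C :=
    { carrier := {x | x ∈ D ∧ ∀ n ∈ N, ⁅n, x⁆ ∈ A}
      one_mem' := ⟨D.one_mem, fun n _ => by simp⟩
      mul_mem' := fun {x y} hx hy => ⟨D.mul_mem hx.1 hy.1, fun n hn => by
        rw [comm_mul_right]; exact A.mul_mem (hx.2 n hn) (hAn.conj_mem _ (hy.2 n hn) x)⟩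
      inv_mem' := fun {x} hx => ⟨D.inv_mem hx.1, fun n hn => by
        have : ⁅n, x⁻¹⁆ = x⁻¹ * ⁅n, x⁆⁻¹ * x := by simp [commutatorElement_def, mul_assoc]
        rw [this]; simpa using hAn.conj_mem _ (A.inv_mem (hx.2 n hn)) x⁻¹⟩ }
  have hD1D : D1 ≤ D := fun x hx => hx.1
  have hND1 : N ≤ D1 := fun x hx =>
    ⟨hND hx, fun n hn => hNN (Subgroup.commutator_mem_commutator hn hx)⟩
  have hAD1 : A ≤ D1 := hAN.trans hND1
  have hswap : ∀ d ∈ D, ∀ a ∈ A, d * a * d⁻¹ = a := fun d hd a ha => by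
    rw [hcen d hd a ha, mul_inv_cancel_right]
  let κ : X → D1 →* (N →* Lˣ) := fun χ =>
    { toFun := fun x =>
        { toFun := fun n => χ.1 ⟨⁅(n : C), (x : C)⁆, x.2.2 n n.2⟩
          map_one' := by rw [← map_one χ.1]; congr 1; refine Subtype.ext ?_; simp
          map_mul' := fun n m => by
            rw [← map_mul]; congr 1; refine Subtype.ext ?_
            simp only [Subgroup.coe_mul]
            rw [comm_mul_left, hswap n (hND n.2) _ (x.2.2 m m.2)]
            exact (congrArg Subtype.val (hAc.1.comm ⟨_, x.2.2 n n.2⟩ ⟨_, x.2.2 m m.2⟩)).symm }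
      map_one' := MonoidHom.ext fun n => by
        change χ.1 _ = 1
        rw [← map_one χ.1]; congr 1; refine Subtype.ext ?_; simp
      map_mul' := fun x y => MonoidHom.ext fun n => by
        change χ.1 _ = χ.1 _ * χ.1 _
        rw [← map_mul]; congr 1; refine Subtype.ext ?_
        simp only [Subgroup.coe_mul]
        rw [comm_mul_right, hswap x x.2.1 _ (y.2.2 n n.2)] }
  have hΛ : ∀ χ : X, (Set.range (κ χ)).Finite ∧
      Nat.card (Set.range (κ χ)) ≤ finrank L (W χ) * finrank L (W χ) := by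
    intro χ
    have h := card_eigenchar_le (L := L) (W := Module.End L (W χ))
      (fun n : N => LinearMap.mulLeftRight L (π χ ⟨n, hND n.2⟩, π χ ⟨n, hND n.2⟩⁻¹))
      (Set.range (κ χ)) ?_
    · refine ⟨h.1, h.2.trans (le_of_eq ?_)⟩
      exact Module.finrank_linearMap L L _ _
    · rintro l ⟨x, rfl⟩
      refine ⟨π χ ⟨x, x.2.1⟩, fun h0 => ?_, fun n => ?_⟩
      · haveI : Nontrivial (W χ) := Module.nontrivial_of_finrank_pos (R := L) (hWpos χ)
        have h1 : π χ ⟨x, x.2.1⟩⁻¹ * π χ ⟨x, x.2.1⟩ = 1 := by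
          rw [← map_mul, inv_mul_cancel, map_one]
        rw [h0, mul_zero] at h1
        exact zero_ne_one h1
      · rw [LinearMap.mulLeftRight_apply]
        have h2 : (⟨n, hND n.2⟩ : D) * ⟨x, x.2.1⟩ * (⟨n, hND n.2⟩ : D)⁻¹ =
            ⟨⁅(n : C), (x : C)⁆, hAD (x.2.2 n n.2)⟩ * ⟨x, x.2.1⟩ := Subtype.ext (by
          simp [commutatorElement_def])
        rw [← map_mul, ← map_mul, h2, map_mul]
        rw [hπA χ ⟨_, x.2.2 n n.2⟩, smul_mul_assoc, one_mul]
        rfl
  haveI hΛfin : ∀ χ : X, Finite (κ χ).range := fun χ =>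
    ((hΛ χ).1.subset fun _ h => h).to_subtype
  have hrel1 : A.relIndex D1 ≤ ∏ χ : X, finrank L (W χ) * finrank L (W χ) := by
    let Φ : D1 → ∀ χ : X, (κ χ).range := fun x χ => (κ χ).rangeRestrict x
    have hfib : ∀ x y : D1, Φ x = Φ y → x⁻¹ * y ∈ A.subgroupOf D1 := by
      intro x y hxy
      rw [Subgroup.mem_subgroupOf]
      refine hCN _ (hD1D (x⁻¹ * y).2) fun n hn => ?_
      rw [← commutatorElement_eq_one_iff_mul_comm]
      refine congrArg Subtype.val (hsep ⟨_, (x⁻¹ * y).2.2 n hn⟩ 1 fun χ => ?_)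
      have h1 : κ χ x = κ χ y := congrArg Subtype.val (congrFun hxy χ)
      have h2 : κ χ (x⁻¹ * y) = 1 := by rw [map_mul, map_inv, h1, inv_mul_cancel]
      rw [map_one]
      exact DFunLike.congr_fun h2 ⟨n, hn⟩
    have hle : (A.subgroupOf D1).index ≤ Nat.card (∀ χ : X, (κ χ).range) := by
      refine Nat.card_le_card_of_injective (fun q => Φ (Quotient.out q)) fun q q' hqq => ?_
      have := QuotientGroup.eq.2 (hfib _ _ hqq)
      rwa [QuotientGroup.out_eq', QuotientGroup.out_eq'] at this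
    rw [Nat.card_pi] at hle
    exact hle.trans (Finset.prod_le_prod' fun χ _ => by
      exact (hΛ χ).2)
  -- the action of `D` on `N / A`
  let Mg : X → Subgroup (N →* Lˣ) := fun χ => (N.subgroupOf D1).map (κ χ)
  haveI hMfin : ∀ χ : X, Finite (Mg χ) := fun χ =>
    Finite.of_injective (Subgroup.inclusion (Subgroup.map_le_range (κ χ) _))
      (Subgroup.inclusion_injective _)
  have hMcard : ∀ χ : X, Nat.card (Mg χ) ≤ finrank L (W χ) * finrank L (W χ) := fun χ =>
    (Nat.card_le_card_of_injective _ (Subgroup.inclusion_injective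
      (Subgroup.map_le_range (κ χ) (N.subgroupOf D1)))).trans
        (hΛ χ).2
  have hpre : ∀ (χ : X) (d : D), ∀ l ∈ Mg χ,
      l.comp (MulAut.conjNormal (d : C) : N ≃* N).toMonoidHom ∈ Mg χ := by
    rintro χ d l ⟨x, hx, rfl⟩
    have hx' : (d : C)⁻¹ * (x : C) * d ∈ N := by simpa using hNn.conj_mem _ hx (d : C)⁻¹
    refine ⟨⟨_, hND1 hx'⟩, hx', MonoidHom.ext fun n => ?_⟩
    change χ.1 _ = χ.1 _
    congr 1
    refine Subtype.ext ?_
    simp only [MulEquiv.coe_toMonoidHom, MulAut.conjNormal_apply]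
    rw [show ⁅(n : C), (d : C)⁻¹ * (x : C) * d⁆ =
        (d : C)⁻¹ * ⁅(d : C) * n * (d : C)⁻¹, (x : C)⁆ * (d : C) by
      simp [commutatorElement_def, mul_assoc]]
    have hmem : ⁅(d : C) * n * (d : C)⁻¹, (x : C)⁆ ∈ A :=
      x.2.2 _ (hNn.conj_mem n n.2 d)
    rw [mul_assoc, ← hcen d d.2 _ hmem, inv_mul_cancel_left]
  let F : D → ∀ χ : X, (Mg χ →* Mg χ) := fun d χ =>
    { toFun := fun l => ⟨(l : N →* Lˣ).comp (MulAut.conjNormal (d : C) : N ≃* N).toMonoidHom,
        hpre χ d l l.2⟩
      map_one' := Subtype.ext (MonoidHom.ext fun n => rfl)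
      map_mul' := fun l l' => Subtype.ext (MonoidHom.ext fun n => rfl) }
  haveI : ∀ χ : X, Finite (Mg χ →* Mg χ) := fun χ => Finite.of_injective _ DFunLike.coe_injective
  have hrel2 : D1.relIndex D ≤
      ∏ χ : X, Nat.card (Mg χ) ^ Nat.log 2 (Nat.card (Mg χ)) := by
    have hfib : ∀ d d' : D, F d = F d' → d⁻¹ * d' ∈ D1.subgroupOf D := by
      intro d d' hdd
      rw [Subgroup.mem_subgroupOf]
      refine ⟨(d⁻¹ * d').2, fun n hn => ?_⟩
      set a := (d : C) * n * (d : C)⁻¹ with ha
      set b := (d' : C) * n * (d' : C)⁻¹ with hb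
      have haN : a ∈ N := hNn.conj_mem n hn d
      have hbN : b ∈ N := hNn.conj_mem n hn d'
      have hab : a⁻¹ * b ∈ A := by
        refine hCN _ (hND (N.mul_mem (N.inv_mem haN) hbN)) fun x hx => ?_
        have h3 : ∀ z ∈ N, ⁅z, x⁆ ∈ A := (hND1 hx).2
        refine (commutatorElement_eq_one_iff_mul_comm.1 ?_).symm
        refine congrArg Subtype.val (hsep ⟨_, h3 _ (N.mul_mem (N.inv_mem haN) hbN)⟩ 1 fun χ => ?_)
        set l := κ χ ⟨x, hND1 hx⟩ with hl
        have hlM : l ∈ Mg χ := ⟨⟨x, hND1 hx⟩, hx, rfl⟩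
        have h4 := DFunLike.congr_fun (congrArg Subtype.val
          (DFunLike.congr_fun (congrFun hdd χ) ⟨l, hlM⟩)) ⟨n, hn⟩
        have e1 : (MulAut.conjNormal (d : C) : N ≃* N) ⟨n, hn⟩ = ⟨a, haN⟩ :=
          Subtype.ext (MulAut.conjNormal_apply _ _)
        have e2 : (MulAut.conjNormal (d' : C) : N ≃* N) ⟨n, hn⟩ = ⟨b, hbN⟩ :=
          Subtype.ext (MulAut.conjNormal_apply _ _)
        have h5 : l ⟨a, haN⟩ = l ⟨b, hbN⟩ := by
          rw [← e1, ← e2]; exact h4
        rw [map_one]
        change l (⟨a, haN⟩⁻¹ * ⟨b, hbN⟩) = 1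
        rw [map_mul, map_inv, h5, inv_mul_cancel]
      rw [show ⁅n, ((d⁻¹ * d' : D) : C)⁆ = n * ((d : C)⁻¹ * (b⁻¹ * a) * d) * n⁻¹ by
        simp [commutatorElement_def, ha, hb, mul_assoc]]
      refine hAn.conj_mem _ ?_ n
      have hba : b⁻¹ * a ∈ A := by simpa using A.inv_mem hab
      rw [mul_assoc, ← hcen d d.2 _ hba, inv_mul_cancel_left]
      exact hba
    have hle : (D1.subgroupOf D).index ≤ Nat.card (∀ χ : X, Mg χ →* Mg χ) := by
      refine Nat.card_le_card_of_injective (fun q => F (Quotient.out q)) fun q q' hqq => ?_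
      have := QuotientGroup.eq.2 (hfib _ _ hqq)
      rwa [QuotientGroup.out_eq', QuotientGroup.out_eq'] at this
    rw [Nat.card_pi] at hle
    exact hle.trans (Finset.prod_le_prod' fun χ _ => card_monoidHom_le _ _)
  -- the arithmetic
  have hAD' : A.relIndex D ≤ ∏ χ : X, 2 ^ (6 * finrank L (W χ) - 4) := by
    rw [← Subgroup.relIndex_mul_relIndex A D1 D hAD1 hD1D]
    refine (Nat.mul_le_mul hrel1 hrel2).trans ?_
    rw [← Finset.prod_mul_distrib]
    refine Finset.prod_le_prod' fun χ _ => ?_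
    set d := finrank L (W χ)
    have hM := hMcard χ
    have h1 : Nat.card (Mg χ) ^ Nat.log 2 (Nat.card (Mg χ)) ≤ (d * d) ^ Nat.log 2 (d * d) :=
      (Nat.pow_le_pow_left hM _).trans
        (Nat.pow_le_pow_right (Nat.mul_pos (hWpos χ) (hWpos χ)) (Nat.log_mono_right hM))
    refine (Nat.mul_le_mul_left _ h1).trans ?_
    rw [← pow_succ']
    rcases block_bound d (hWpos χ) with h | h
    · exact h
    · simp [h]
  rw [Finset.prod_pow_eq_pow_sum] at hAD'
  have hXpos : 1 ≤ Nat.card X := by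
    rw [Nat.card_eq_fintype_card]
    refine Fintype.card_pos_iff.2 ?_
    by_contra h
    rw [not_nonempty_iff] at h
    rw [← hdim, Finset.univ_eq_empty, Finset.sum_empty] at hs
    omega
  have hsum6 : ∑ χ : X, (6 * finrank L (W χ) - 4) + 4 * Nat.card X = 6 * finrank L V := by
    rw [← hdim, Finset.mul_sum, Nat.card_eq_fintype_card, ← Finset.card_univ,
      mul_comm 4, ← smul_eq_mul, ← Finset.sum_const, ← Finset.sum_add_distrib]
    refine Finset.sum_congr rfl fun χ _ => ?_
    have := hWpos χ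
    omega
  calc D.index ^ 2 * A.relIndex D
      ≤ (4 ^ (Nat.card X - 1)) ^ 2 * 2 ^ ∑ χ : X, (6 * finrank L (W χ) - 4) :=
        Nat.mul_le_mul (Nat.pow_le_pow_left hDindex 2) hAD'
    _ = 2 ^ (4 * (Nat.card X - 1) + ∑ χ : X, (6 * finrank L (W χ) - 4)) := by
        rw [← pow_mul, show (4 : ℕ) = 2 ^ 2 from rfl, ← pow_mul, ← pow_add]
        congr 1; ring
    _ = 2 ^ (6 * finrank L V - 4) := by congr 1; omega

end Cfsg.Agent.ClassPrime
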