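import Cfsg.Agent.Lib.ClassPrime.Component
import Cfsg.Agent.Lib.ClassPrime.CharCount

/-!
A faithful irreducible solvable linear group with a normal `p`-subgroup, `p ≥ 64`: the classes of
the group and its orbits on the module together number at least `p / (3 log₂ p)`.
-/

set_option autoImplicit false
set_option linter.style.haveILetI false

open scoped commutatorElement
open Module Polynomial

namespace Cfsg.Agent.ClassPrime

universe u v

theorem aeval_semiconj {R : Type*} [CommRing R] {E : Type*} [Ring E] [Algebra R E] {u x y : E}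
    (h : u * x = y * u) (P : R[X]) : u * aeval x P = aeval y P * u := by
  induction P using Polynomial.induction_on with
  | C c => rw [aeval_C, aeval_C]; exact (Algebra.commutes c u).symm
  | add P Q hP hQ => rw [map_add, map_add, mul_add, add_mul, hP, hQ]
  | monomial n c _ =>
    rw [map_mul, map_mul, aeval_C, aeval_C, map_pow, map_pow, aeval_X, aeval_X, ← mul_assoc,
      ← Algebra.commutes c u, mul_assoc, mul_assoc]
    congr 1
    exact (show SemiconjBy u x y from h).pow_right (n + 1)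

set_option maxHeartbeats 1600000 in
theorem module_bound {H : Type u} [Group H] [Finite H] (hsol : Group.IsSolvable H) {r : ℕ}
    [hr : Fact r.Prime] {V : Type v} [AddCommGroup V] [Module (ZMod r) V] [Finite V] [Nontrivial V]
    (ρ : H →* Module.End (ZMod r) V) (hρ : Function.Injective ρ)
    (hirr : ∀ U : Submodule (ZMod r) V, (∀ h, ∀ v ∈ U, ρ h v ∈ U) → U = ⊥ ∨ U = ⊤)
    {A : Subgroup H} [hAn : A.Normal] (hA : A ≠ ⊥) (hAc : IsMulCommutative A) {p : ℕ}
    [hp : Fact p.Prime] (hp64 : 64 ≤ p) (hAp : ∀ x ∈ A, x ^ p = 1)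
    {ι : Type*} [Finite ι] (f : V → ι)
    (hf : ∀ v w : V, v ≠ 0 → w ≠ 0 → f v = f w → ∃ h, ρ h v = w) :
    (p : ℝ) / (3 * Real.logb 2 p) ≤ ((Nat.card (ConjClasses H) + Nat.card ι : ℕ) : ℝ) := by
  classical
  have hinv : ∀ (h : H) (v : V), ρ h⁻¹ (ρ h v) = v := fun h v => by
    rw [← Module.End.mul_apply, ← map_mul, inv_mul_cancel, map_one]; rfl
  have hmulap : ∀ (g h : H) (v : V), ρ (g * h) v = ρ g (ρ h v) := fun g h v => by
    rw [map_mul]; rfl
  -- no vector is fixed by the whole of `A`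
  let fixS : Subgroup H → Submodule (ZMod r) V := fun S =>
    { carrier := {v | ∀ x ∈ S, ρ x v = v}
      zero_mem' := fun x _ => map_zero _
      add_mem' := fun {v w} hv hw x hx => by rw [map_add, hv x hx, hw x hx]
      smul_mem' := fun c v hv x hx => by rw [map_smul, hv x hx] }
  have hmem : ∀ {S : Subgroup H} {v : V}, v ∈ fixS S ↔ ∀ x ∈ S, ρ x v = v := Iff.rfl
  have hfixA : ∀ v : V, (∀ x ∈ A, ρ x v = v) → v = 0 := by
    intro v hv
    have hinvU : ∀ h, ∀ w ∈ fixS A, ρ h w ∈ fixS A := by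
      intro h w hw x hx
      have hx' : h⁻¹ * x * h ∈ A := by simpa using hAn.conj_mem x hx h⁻¹
      have h1 := congrArg (ρ h) (hw _ hx')
      rw [← hmulap, show h * (h⁻¹ * x * h) = x * h by group, hmulap] at h1
      exact h1
    rcases hirr (fixS A) hinvU with h | h
    · exact (Submodule.mem_bot _).1 (h ▸ (show v ∈ fixS A from hv))
    · refine absurd ?_ hA
      rw [Subgroup.eq_bot_iff_forall]
      intro x hx
      refine hρ ?_
      rw [map_one]
      exact LinearMap.ext fun w => (h.symm ▸ Submodule.mem_top : w ∈ fixS A) x hx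
  -- `r ≠ p`
  have hrp : (p : ZMod r) ≠ 0 := by
    intro h0
    have hd : r ∣ p := (CharP.cast_eq_zero_iff (ZMod r) r p).1 h0
    obtain rfl : r = p := (Nat.prime_dvd_prime_iff_eq hr.out hp.out).1 hd
    have hApg : IsPGroup r A := fun x => ⟨1, Subtype.ext (by rw [pow_one]; exact hAp x x.2)⟩
    letI : MulAction A V :=
      { smul := fun x v => ρ x v
        one_smul := fun v => by
          change ρ ((1 : A) : H) v = v
          rw [Subgroup.coe_one, map_one]; rfl
        mul_smul := fun x y v => hmulap x y v }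
    have hdvdV : r ∣ Nat.card V := by
      rw [Module.natCard_eq_pow_finrank (K := ZMod r), Nat.card_zmod]
      exact dvd_pow_self r Module.finrank_pos.ne'
    obtain ⟨w, hw, hw0⟩ := hApg.exists_fixed_point_of_prime_dvd_card_of_fixed_point V hdvdV
      (a := 0) (fun x => map_zero _)
    exact hw0 (hfixA w fun x hx => hw ⟨x, hx⟩).symm
  -- a maximal subgroup of `A` with fixed vectors
  obtain ⟨A0, -, hA0max⟩ := Finite.exists_le_maximal
    (p := fun S : Subgroup H => S ≤ A ∧ fixS S ≠ ⊥) (a := ⊥)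
    ⟨bot_le, fun h => by
      obtain ⟨v, hv⟩ := exists_ne (0 : V)
      have hv' : v ∈ fixS ⊥ := fun x hx => by rw [Subgroup.mem_bot.1 hx, map_one]; rfl
      rw [h, Submodule.mem_bot] at hv'
      exact hv hv'⟩
  obtain ⟨h0A, hV0⟩ := hA0max.1
  set V0 := fixS A0 with hV0def
  have hout : ∀ x ∈ A, x ∉ A0 → ∀ v ∈ V0, ρ x v = v → v = 0 := by
    intro x hx hx0 v hv hxv
    by_contra hv0
    refine hx0 (hA0max.2 ⟨sup_le h0A (Subgroup.zpowers_le.2 hx), fun h => hv0 ?_⟩
      (le_sup_left (b := Subgroup.zpowers x)) (Subgroup.mem_sup_right (Subgroup.mem_zpowers x)))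
    have hv' : v ∈ fixS (A0 ⊔ Subgroup.zpowers x) := by
      intro y hy
      let S : Subgroup H :=
        { carrier := {y | ρ y v = v}
          one_mem' := by simp
          mul_mem' := fun {a b} ha hb => by
            simp only [Set.mem_ofPred_eq] at ha hb ⊢; rw [hmulap, hb, ha]
          inv_mem' := fun {a} ha => by
            simp only [Set.mem_ofPred_eq] at ha ⊢
            conv_lhs => rw [← ha]
            exact hinv a v }
      exact (sup_le (fun z hz => hv z hz) (Subgroup.zpowers_le.2 (show x ∈ S from hxv)) :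
        A0 ⊔ Subgroup.zpowers x ≤ S) hy
    rw [h, Submodule.mem_bot] at hv'
    exact hv'
  obtain ⟨v₁, hv₁, hv₁0⟩ := (Submodule.ne_bot_iff _).1 hV0
  obtain ⟨a, haA, ha0⟩ : ∃ a ∈ A, a ∉ A0 := by
    by_contra h
    push Not at h
    exact hv₁0 (hfixA v₁ fun x hx => hv₁ x (h x hx))
  have hcommA : ∀ x ∈ A, ∀ y ∈ A, x * y = y * x := fun x hx y hy =>
    congrArg Subtype.val (hAc.1.comm ⟨x, hx⟩ ⟨y, hy⟩)
  have hV0A : ∀ x ∈ A, ∀ v ∈ V0, ρ x v ∈ V0 := by
    intro x hx v hv y hy
    rw [← hmulap, hcommA y (h0A hy) x hx, hmulap, hv y hy]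
  have hgen : ∀ x ∈ A, ∃ j : ℕ, x * (a ^ j)⁻¹ ∈ A0 := by
    intro x hx
    by_contra hno
    push Not at hno
    apply hv₁0
    have hav : ∀ y ∈ A, y ∉ A0 → ∑ t ∈ Finset.range p, ρ (y ^ t) v₁ = 0 := by
      intro y hy hy0
      refine hout y hy hy0 _ (Submodule.sum_mem _ fun t _ => hV0A _ (A.pow_mem hy t) _ hv₁) ?_
      rw [map_sum]
      have hp' : ρ (y ^ p) v₁ = ρ (y ^ 0) v₁ := by rw [hAp y hy, pow_zero]
      calc ∑ t ∈ Finset.range p, ρ y (ρ (y ^ t) v₁) = ∑ t ∈ Finset.range p, ρ (y ^ (t + 1)) v₁ :=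
            Finset.sum_congr rfl fun t _ => by rw [pow_succ', hmulap]
        _ = ∑ t ∈ Finset.range p, ρ (y ^ t) v₁ := by
            have h1 := Finset.sum_range_succ (fun t => ρ (y ^ t) v₁) p
            have h2 := Finset.sum_range_succ' (fun t => ρ (y ^ t) v₁) p
            rw [h1, hp'] at h2
            exact add_right_cancel h2.symm
    have hsum : ∑ i ∈ Finset.range p, ∑ t ∈ Finset.range p, ρ (a ^ i * (x ^ i) ^ t) v₁ =
        (p : ℕ) • v₁ := by
      rw [Finset.sum_eq_single 0]
      · simp [Finset.sum_const]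
      · intro i hi hi0
        have hxi : x ^ i ∉ A0 := by
          intro hxi
          apply hno 0
          rw [pow_zero, inv_one, mul_one]
          obtain ⟨m, -, hm⟩ := Nat.exists_mul_mod_eq_one_of_coprime
            ((Nat.coprime_primes hp.out hp.out).not.2 (by simp) |> fun _ =>
              ((hp.out.coprime_iff_not_dvd.2 fun h =>
                absurd (Nat.le_of_dvd (Nat.pos_of_ne_zero hi0) h)
                  (not_le.2 (Finset.mem_range.1 hi))).symm)) hp.out.one_lt
          have : x = (x ^ i) ^ m := by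
            rw [← pow_mul, ← pow_mod_orderOf]
            conv_lhs => rw [← pow_one x]
            have hdvd : orderOf x ∣ p := orderOf_dvd_of_pow_eq_one (hAp x hx)
            rw [← pow_mod_orderOf x 1]
            congr 1
            rw [← Nat.mod_mod_of_dvd (i * m) hdvd, hm]
          rw [this]
          exact A0.pow_mem hxi m
        calc ∑ t ∈ Finset.range p, ρ (a ^ i * (x ^ i) ^ t) v₁
            = ρ (a ^ i) (∑ t ∈ Finset.range p, ρ ((x ^ i) ^ t) v₁) := by
              rw [map_sum]; exact Finset.sum_congr rfl fun t _ => hmulap _ _ _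
          _ = 0 := by rw [hav _ (A.pow_mem hx i) hxi, map_zero]
      · intro h; exact absurd (Finset.mem_range.2 hp.out.pos) h
    have hzero : ∑ i ∈ Finset.range p, ∑ t ∈ Finset.range p, ρ (a ^ i * (x ^ i) ^ t) v₁ = 0 := by
      rw [Finset.sum_comm]
      refine Finset.sum_eq_zero fun t _ => ?_
      rw [← hav (a * x ^ t) (A.mul_mem haA (A.pow_mem hx t)) ?_]
      · refine Finset.sum_congr rfl fun i _ => ?_
        rw [(show Commute a (x ^ t) from hcommA a haA _ (A.pow_mem hx t)).mul_pow, ← pow_mul,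
          ← pow_mul, mul_comm t i]
      · intro hat
        by_cases ht : p ∣ t
        · obtain ⟨k, rfl⟩ := ht
          rw [pow_mul, hAp x hx, one_pow, mul_one] at hat
          exact ha0 hat
        · obtain ⟨m, -, hm⟩ := Nat.exists_mul_mod_eq_one_of_coprime
            ((hp.out.coprime_iff_not_dvd.2 ht).symm) hp.out.one_lt
          refine hno ((p - 1) * m % p) ?_
          have h1 := A0.pow_mem hat m
          rw [(show Commute a (x ^ t) from hcommA a haA _ (A.pow_mem hx t)).mul_pow, ← pow_mul] at h1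
          have hxtm : x ^ (t * m) = x := by
            have hdvd : orderOf x ∣ p := orderOf_dvd_of_pow_eq_one (hAp x hx)
            conv_rhs => rw [← pow_one x, ← pow_mod_orderOf]
            rw [← pow_mod_orderOf]
            congr 1
            rw [← Nat.mod_mod_of_dvd (t * m) hdvd, hm]
          rw [hxtm] at h1
          have hap : ∀ k, a ^ (k % p) = a ^ k := fun k => by
            conv_rhs => rw [← Nat.mod_add_div k p, pow_add, pow_mul, hAp a haA, one_pow, mul_one]
          have e : x * (a ^ ((p - 1) * m % p))⁻¹ = a ^ m * x := by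
            rw [hap, mul_inv_eq_iff_eq_mul, mul_assoc,
              (show Commute x (a ^ ((p - 1) * m)) from hcommA x hx _ (A.pow_mem haA _)).eq,
              ← mul_assoc, ← pow_add, show m + (p - 1) * m = p * m by
                rw [show m + (p - 1) * m = (1 + (p - 1)) * m by ring,
                  Nat.add_sub_cancel' hp.out.one_le],
              pow_mul, hAp a haA, one_pow, one_mul]
          rw [e]; exact h1
    rw [hsum, ← Nat.cast_smul_eq_nsmul (ZMod r)] at hzero
    exact (smul_eq_zero.1 hzero).resolve_left hrp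
  -- `H1` and `C1`
  let H1 : Subgroup H := Subgroup.normalizer (A0 : Set H)
  have hH1 : ∀ {h : H}, h ∈ H1 ↔ ∀ x, x ∈ A0 ↔ h * x * h⁻¹ ∈ A0 := fun {h} =>
    Subgroup.mem_normalizer_iff
  let C1 : Subgroup H :=
    { carrier := {h | ∀ x ∈ A, ⁅h, x⁆ ∈ A0}
      one_mem' := fun x _ => by simp
      mul_mem' := fun {g h} hg hh x hx => by
        have e : ⁅g * h, x⁆ = ⁅g, h * x * h⁻¹⁆ * ⁅h, x⁆ := by simp [commutatorElement_def, mul_assoc]
        rw [e]; exact A0.mul_mem (hg _ (hAn.conj_mem x hx h)) (hh x hx)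
      inv_mem' := fun {g} hg x hx => by
        have e : ⁅g⁻¹, x⁆ = ⁅g, g⁻¹ * x * g⁆⁻¹ := by simp [commutatorElement_def, mul_assoc]
        rw [e]; exact A0.inv_mem (hg _ (by simpa using hAn.conj_mem x hx g⁻¹)) }
  have hC1 : ∀ h, h ∈ C1 ↔ ∀ x ∈ A, ⁅h, x⁆ ∈ A0 := fun h => Iff.rfl
  have hconjA0 : ∀ c ∈ C1, ∀ x ∈ A0, c * x * c⁻¹ ∈ A0 := fun c hc x hx => by
    rw [show c * x * c⁻¹ = ⁅c, x⁆ * x by simp [commutatorElement_def]]
    exact A0.mul_mem (hc x (h0A hx)) hx
  have hCH : C1 ≤ H1 := fun c hc => hH1.2 fun x => ⟨hconjA0 c hc x, fun hx => by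
    have := hconjA0 c⁻¹ (C1.inv_mem hc) _ hx
    simpa [mul_assoc] using this⟩
  have hAC : A ≤ C1 := fun y hy x hx => by
    rw [commutatorElement_eq_one_iff_mul_comm.2 (hcommA y hy x hx)]; exact A0.one_mem
  have haH1 : A ≤ H1 := hAC.trans hCH
  have hC1n : (C1.subgroupOf H1).Normal := ⟨fun c hc g => by
    rw [Subgroup.mem_subgroupOf] at hc ⊢
    intro x hx
    have hx' : (g : H)⁻¹ * x * (g : H) ∈ A := by simpa using hAn.conj_mem x hx (g : H)⁻¹
    have h1 := (hH1.1 g.2 _).1 (hc _ hx')
    convert h1 using 1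
    simp [commutatorElement_def, mul_assoc]⟩
  have hcrit : ∀ c ∈ H1, ⁅c, a⁆ ∈ A0 → c ∈ C1 := by
    intro c hc hca x hx
    obtain ⟨j, hj⟩ := hgen x hx
    have hpow : ⁅c, a ^ j⁆ ∈ A0 := by
      clear hj
      induction j with
      | zero => simp
      | succ j ih =>
        rw [pow_succ, comm_mul_right]
        refine A0.mul_mem ih ?_
        rw [hcommA _ (A.pow_mem haA j) _ (h0A hca), mul_inv_cancel_right]
        exact hca
    have e : x = x * (a ^ j)⁻¹ * a ^ j := by group
    rw [e, comm_mul_right]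
    refine A0.mul_mem ?_ ?_
    · rw [commutatorElement_def]; exact A0.mul_mem ((hH1.1 hc _).1 hj) (A0.inv_mem hj)
    · rw [hcommA _ (h0A hj) _ (h0A hpow), mul_inv_cancel_right]
      exact hpow
  -- the action on `V0`
  have hV0H : ∀ h ∈ H1, ∀ v ∈ V0, ρ h v ∈ V0 := by
    intro h hh v hv x hx
    have hx' : h⁻¹ * x * h ∈ A0 := (hH1.1 hh _).2 (by simpa [mul_assoc] using hx)
    have h1 := congrArg (ρ h) (hv _ hx')
    rw [← hmulap, show h * (h⁻¹ * x * h) = x * h by group, hmulap] at h1
    exact h1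
  let σ1 : H1 →* Module.End (ZMod r) V0 :=
    restr (ρ.comp H1.subtype) (W := V0) fun h v hv => hV0H h h.2 v hv
  let σ : C1 →* Module.End (ZMod r) V0 := σ1.comp (Subgroup.inclusion hCH)
  have hσ : ∀ (t : C1) (v : V0), ((σ t v : V0) : V) = ρ t v := fun t v => rfl
  have hσ1 : ∀ (t : H1) (v : V0), ((σ1 t v : V0) : V) = ρ t v := fun t v => rfl
  have hirr1 : ∀ U : Submodule (ZMod r) V0, (∀ t, ∀ v ∈ U, σ1 t v ∈ U) → U = ⊥ ∨ U = ⊤ := by
    intro U hU
    by_cases hUb : U = ⊥
    · exact Or.inl hUb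
    right
    let S : Submodule (ZMod r) V := ⨆ h : H, (U.map V0.subtype).map (ρ h)
    have hS : S = ⊤ := by
      refine (hirr S ?_).resolve_left fun hb => hUb ?_
      · intro h v hv
        refine Submodule.iSup_induction _ (motive := fun v => ρ h v ∈ S) hv ?_ ?_ ?_
        · rintro g _ ⟨w, hw, rfl⟩
          refine Submodule.mem_iSup_of_mem (h * g) ⟨w, hw, ?_⟩
          exact hmulap h g w
        · simp
        · intro x y hx hy; rw [map_add]; exact S.add_mem hx hy
      · rw [Submodule.eq_bot_iff]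
        intro u hu
        have : (u : V) ∈ S := Submodule.mem_iSup_of_mem 1 ⟨u, ⟨u, hu, rfl⟩, by rw [map_one]; rfl⟩
        rw [hb, Submodule.mem_bot] at this
        exact Subtype.ext this
    haveI : Fintype A0 := Fintype.ofFinite A0
    let e0 : Module.End (ZMod r) V := ∑ x : A0, ρ x
    have hA0c : ((Fintype.card A0 : ℕ) : ZMod r) ≠ 0 := by
      have hpg : IsPGroup p A0 := fun x => ⟨1, Subtype.ext (by
        rw [pow_one]; exact hAp x (h0A x.2))⟩
      obtain ⟨k, hk⟩ := IsPGroup.iff_card.1 hpg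
      rw [← Nat.card_eq_fintype_card, hk, Nat.cast_pow]
      exact pow_ne_zero k hrp
    have he0fix : ∀ v, e0 v ∈ V0 := by
      intro v x hx
      simp only [e0, LinearMap.sum_apply, map_sum]
      refine Fintype.sum_equiv (Equiv.mulLeft (⟨x, hx⟩ : A0)) _ _ fun y => ?_
      simp
    have hall : ∀ v, e0 v ∈ U.map V0.subtype := by
      intro v
      refine Submodule.iSup_induction _ (motive := fun v => e0 v ∈ U.map V0.subtype)
        (hS.symm ▸ Submodule.mem_top : v ∈ S) ?_ ?_ ?_
      · rintro h _ ⟨_, ⟨u, hu, rfl⟩, rfl⟩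
        simp only [Submodule.subtype_apply]
        by_cases hh : h ∈ H1
        · refine ⟨(Fintype.card A0 : ZMod r) • σ1 ⟨h, hh⟩ u, U.smul_mem _ (hU _ u hu), ?_⟩
          simp only [e0, LinearMap.sum_apply]
          rw [Finset.sum_congr rfl fun (x : A0) _ => (hV0H h hh u u.2) x x.2]
          rw [Finset.sum_const, Finset.card_univ, ← Nat.cast_smul_eq_nsmul (ZMod r)]
          rfl
        · have hno : ∃ z ∈ A, z ∉ A0 ∧ ρ z (e0 (ρ h u)) = e0 (ρ h u) := by
            by_contra hz
            push Not at hz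
            apply hh
            have hfwd : ∀ y ∈ A0, h * y * h⁻¹ ∈ A0 := by
              intro y hy
              by_contra hy0
              refine hz _ (hAn.conj_mem y (h0A hy) h) hy0 ?_
              simp only [e0, LinearMap.sum_apply, map_sum]
              refine Finset.sum_congr rfl fun x _ => ?_
              rw [← hmulap, hcommA _ (hAn.conj_mem y (h0A hy) h) _ (h0A x.2), hmulap,
                ← hmulap (h * y * h⁻¹) h, show h * y * h⁻¹ * h = h * y by group, hmulap h y]
              exact congrArg _ (congrArg _ (u.2 y hy))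
            refine hH1.2 fun y => ⟨hfwd y, fun hy => ?_⟩
            have hbij : Function.Bijective fun z : A0 => (⟨h * z * h⁻¹, hfwd z z.2⟩ : A0) :=
              Finite.injective_iff_bijective.1 fun z z' hzz => Subtype.ext (by
                simpa using congrArg Subtype.val hzz)
            obtain ⟨z, hz'⟩ := hbij.2 ⟨_, hy⟩
            have : (z : H) = y := by simpa using congrArg Subtype.val hz'
            exact this ▸ z.2
          obtain ⟨z, hzA, hz0, hzv⟩ := hno
          rw [hout z hzA hz0 _ (he0fix _) hzv]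
          exact Submodule.zero_mem _
      · rw [map_zero]; exact Submodule.zero_mem _
      · intro x y hx hy; rw [map_add]; exact Submodule.add_mem _ hx hy
    rw [Submodule.eq_top_iff']
    intro v
    have h1 := hall (v : V)
    simp only [e0, LinearMap.sum_apply] at h1
    rw [Finset.sum_congr rfl fun (x : A0) _ => v.2 x x.2, Finset.sum_const, Finset.card_univ,
      ← Nat.cast_smul_eq_nsmul (ZMod r)] at h1
    obtain ⟨u, hu, he⟩ := h1
    have hu' : u = (Fintype.card A0 : ZMod r) • v := Subtype.ext he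
    have := U.smul_mem ((Fintype.card A0 : ZMod r))⁻¹ (hu' ▸ hu)
    rwa [smul_smul, inv_mul_cancel₀ hA0c, one_smul] at this
  -- `a` in `C1`
  let aT : C1 := ⟨a, hAC haA⟩
  have haTp : aT ^ p = 1 := Subtype.ext (hAp a haA)
  have hcen : ∀ t, σ t * σ aT = σ aT * σ t := by
    intro t
    refine LinearMap.ext fun v => Subtype.ext ?_
    change ρ t (ρ a v) = ρ a (ρ t v)
    have h1 := hV0H (a * t) (H1.mul_mem (haH1 haA) (hCH t.2)) v v.2 ⁅(t : H), a⁆ (t.2 a haA)
    rw [← hmulap] at h1
    rw [← hmulap, ← hmulap]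
    rw [show ⁅(t : H), a⁆ * (a * (t : H)) = (t : H) * a by simp [commutatorElement_def, mul_assoc]] at h1
    exact h1
  have hfree : ∀ v : V0, σ aT v = v → v = 0 := fun v hv =>
    Subtype.ext (hout a haA ha0 v v.2 (congrArg Subtype.val hv))
  have hsolC : Group.IsSolvable C1 := inferInstance
  -- the irreducible components
  haveI : Nontrivial V0 := (Submodule.nontrivial_iff_ne_bot).2 hV0
  obtain ⟨W0, -, hW0min⟩ := Finite.exists_le_minimal
    (p := fun W : Submodule (ZMod r) V0 => W ≠ ⊥ ∧ ∀ t, ∀ v ∈ W, σ t v ∈ W) (a := ⊤)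
    ⟨top_ne_bot, fun _ _ _ => Submodule.mem_top⟩
  have hW0 : IrrInv σ W0 := ⟨hW0min.1.1, hW0min.1.2, fun U hUW hU => by
    by_cases h : U = ⊥
    · exact Or.inl h
    · exact Or.inr (le_antisymm hUW (hW0min.2 ⟨h, hU⟩ hUW))⟩
  have hσ1inv : ∀ (h : H1) (v : V0), σ1 h⁻¹ (σ1 h v) = v := fun h v => by
    rw [← Module.End.mul_apply, ← map_mul, inv_mul_cancel, map_one]; rfl
  have hconjW : ∀ h : H1, IrrInv σ (W0.map (σ1 h)) := by
    intro h
    have hmove : ∀ (g : H1) (U : Submodule (ZMod r) V0), (∀ t, ∀ v ∈ U, σ t v ∈ U) →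
        ∀ t, ∀ v ∈ U.map (σ1 g), σ t v ∈ U.map (σ1 g) := by
      rintro g U hU t _ ⟨u, hu, rfl⟩
      have hc : (g⁻¹ * Subgroup.inclusion hCH t * g : H1) ∈ C1.subgroupOf H1 := by
        simpa using hC1n.conj_mem (Subgroup.inclusion hCH t) t.2 g⁻¹
      refine ⟨σ ⟨_, hc⟩ u, hU _ u hu, ?_⟩
      change σ1 g (σ1 (g⁻¹ * Subgroup.inclusion hCH t * g) u) = σ1 (Subgroup.inclusion hCH t) (σ1 g u)
      rw [← Module.End.mul_apply, ← Module.End.mul_apply, ← map_mul, ← map_mul]
      congr 2
      group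
    have hback : ∀ U : Submodule (ZMod r) V0, (U.map (σ1 h)).map (σ1 h⁻¹) = U := fun U => by
      rw [← Submodule.map_comp, ← Module.End.mul_eq_comp, ← map_mul, inv_mul_cancel, map_one,
        Module.End.one_eq_id, Submodule.map_id]
    have hback' : ∀ U : Submodule (ZMod r) V0, (U.map (σ1 h⁻¹)).map (σ1 h) = U := fun U => by
      rw [← Submodule.map_comp, ← Module.End.mul_eq_comp, ← map_mul, mul_inv_cancel, map_one,
        Module.End.one_eq_id, Submodule.map_id]
    refine ⟨fun hb => hW0.1 ?_, hmove h W0 hW0.2.1, fun U hUW hU => ?_⟩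
    · rw [← hback W0, hb, Submodule.map_bot]
    · rcases hW0.2.2 (U.map (σ1 h⁻¹)) ((Submodule.map_mono hUW).trans (hback W0).le)
        (hmove h⁻¹ U hU) with h1 | h1
      · exact Or.inl (by rw [← hback' U, h1, Submodule.map_bot])
      · exact Or.inr (by rw [← hback' U, h1])
  have hgoodW : ∀ W, IrrInv σ W → Good σ aT W := by
    intro W hW
    refine good_irr σ aT hsolC hp64 haTp hcen hW ?_
    obtain ⟨v, hv, hv0⟩ := (Submodule.ne_bot_iff _).1 hW.1
    exact ⟨v, hv, fun h => hv0 (hfree v h)⟩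
  obtain ⟨S, -, hSmax⟩ := Finite.exists_le_maximal
    (p := fun S : Submodule (ZMod r) V0 => (∀ t, ∀ v ∈ S, σ t v ∈ S) ∧ Good σ aT S) (a := ⊥)
    ⟨fun t v hv => by rw [(Submodule.mem_bot _).1 hv, map_zero]; exact Submodule.zero_mem _,
      good_bot σ aT⟩
  have hStop : S = ⊤ := by
    have hsup : (⨆ h : H1, W0.map (σ1 h)) = ⊤ := by
      refine (hirr1 _ ?_).resolve_left fun hb => hW0.1 ?_
      · intro g v hv
        refine Submodule.iSup_induction _ (motive := fun v => σ1 g v ∈ ⨆ h : H1, W0.map (σ1 h))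
          hv ?_ ?_ ?_
        · rintro k _ ⟨w, hw, rfl⟩
          exact Submodule.mem_iSup_of_mem (g * k) ⟨w, hw, by rw [map_mul]; rfl⟩
        · simp
        · intro x y hx hy; rw [map_add]; exact Submodule.add_mem _ hx hy
      · refine le_bot_iff.1 (le_trans ?_ hb.le)
        exact fun w hw => Submodule.mem_iSup_of_mem 1 ⟨w, hw, by rw [map_one]; rfl⟩
    by_contra hne
    obtain ⟨h, hh⟩ : ∃ h : H1, ¬ W0.map (σ1 h) ≤ S := by
      by_contra hc
      push Not at hc
      exact hne (eq_top_iff.2 (hsup ▸ iSup_le hc))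
    set W := W0.map (σ1 h) with hWdef
    have hdis : Disjoint S W := by
      rw [disjoint_iff]
      rcases (hconjW h).2.2 (S ⊓ W) inf_le_right
        (fun t v hv => ⟨hSmax.1.1 t v hv.1, (hconjW h).2.1 t v hv.2⟩) with h1 | h1
      · exact h1
      · exact absurd (h1.ge.trans inf_le_left) hh
    refine hh (le_trans le_sup_right (hSmax.2 ⟨?_, good_sup σ aT hdis hSmax.1.2 (hgoodW _ (hconjW h))⟩
      le_sup_left))
    intro t v hv
    obtain ⟨x, hx, y, hy, rfl⟩ := Submodule.mem_sup.1 hv
    rw [map_add]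
    exact Submodule.add_mem_sup (hSmax.1.1 t x hx) ((hconjW h).2.1 t y hy)
  obtain ⟨D, B, P, hDn, hBn, hBD, haB, hKB, hcomm, hP0, hP, hbound⟩ := hStop ▸ hSmax.1.2
  set K := kerOn σ (⊤ : Submodule (ZMod r) V0) with hKdef
  haveI hKn : K.Normal := by
    have : K = σ.ker := by
      ext t
      rw [MonoidHom.mem_ker]
      exact ⟨fun h => LinearMap.ext fun v => h v Submodule.mem_top,
        fun h v _ => LinearMap.congr_fun h v⟩
    rw [this]; exact inferInstance
  -- the automiser
  set g := C1.relIndex H1 with hgdef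
  have hgP : g ≤ P.natDegree := by
    have hex : ∀ q : H1 ⧸ C1.subgroupOf H1, ∃ j : ℕ,
        ((Quotient.out q : H1) : H) * a * ((Quotient.out q : H1) : H)⁻¹ * (a ^ j)⁻¹ ∈ A0 := fun q =>
      hgen _ (hAn.conj_mem a haA _)
    choose e he using hex
    refine card_roots_le (σ := σ) (a := aT) hW0 hcen hP0 e (fun q v hv => ?_) (fun q q' hqq => ?_)
    · have hq := he q
      generalize (Quotient.out q : H1) = h at hq
      have hsemi : σ1 h * σ aT = σ (aT ^ e q) * σ1 h := by
        refine LinearMap.ext fun w => Subtype.ext ?_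
        change ρ h (ρ a w) = ρ ((aT ^ e q : C1) : H) (ρ h w)
        have h1 := hV0H ((h : H) * a) (H1.mul_mem h.2 (haH1 haA)) w w.2 _ (A0.inv_mem hq)
        rw [Subgroup.coe_pow, show ((aT : C1) : H) = a from rfl, ← hmulap, ← hmulap]
        rw [← hmulap] at h1
        rw [← h1]
        congr 2
        group
      have h2 := aeval_semiconj hsemi P
      have h3 : aeval (σ aT) P = 0 := LinearMap.ext fun w => hP w Submodule.mem_top
      rw [h3, mul_zero] at h2
      have h4 := LinearMap.congr_fun h2.symm (σ1 h⁻¹ v)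
      rw [Module.End.mul_apply, ← Module.End.mul_apply (σ1 h), ← map_mul, mul_inv_cancel,
        map_one, LinearMap.zero_apply] at h4
      exact h4
    · obtain ⟨v, hv, hv0⟩ := (Submodule.ne_bot_iff _).1 hW0.1
      have h1 : ρ (a ^ e q) (v : V) = ρ (a ^ e q') v := congrArg Subtype.val (hqq v hv)
      have hx : (a ^ e q')⁻¹ * a ^ e q ∈ A0 := by
        by_contra hx0
        refine hv0 (Subtype.ext (hout _ (A.mul_mem (A.inv_mem (A.pow_mem haA _)) (A.pow_mem haA _))
          hx0 v v.2 ?_))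
        rw [hmulap, h1]
        exact hinv _ _
      obtain ⟨h, hh⟩ : ∃ h : H1, (Quotient.out q : H1) = h := ⟨_, rfl⟩
      obtain ⟨h', hh'⟩ : ∃ h : H1, (Quotient.out q' : H1) = h := ⟨_, rfl⟩
      have hq := he q
      have hq' := he q'
      rw [hh] at hq
      rw [hh'] at hq'
      have hmem : (h : H)⁻¹ * h' ∈ C1 := by
        refine hcrit _ (H1.mul_mem (H1.inv_mem h.2) h'.2) ((hH1.1 h.2 _).2 ?_)
        have hy : a ^ e q' * (a ^ e q)⁻¹ ∈ A0 := by
          have := A0.inv_mem hx
          rwa [mul_inv_rev, inv_inv, hcommA _ (A.inv_mem (A.pow_mem haA _)) _ (A.pow_mem haA _)] at this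
        have h2 := A0.mul_mem (A0.mul_mem hq' hy) (A0.inv_mem hq)
        have e1 : (h : H) * ⁅(h : H)⁻¹ * h', a⁆ * (h : H)⁻¹ =
            (h' : H) * a * (h' : H)⁻¹ * ((h : H) * a * (h : H)⁻¹)⁻¹ := by
          simp [commutatorElement_def, mul_assoc]
        rw [e1]
        convert h2 using 1
        group
      have := QuotientGroup.eq.2 (show h⁻¹ * h' ∈ C1.subgroupOf H1 from hmem)
      rwa [← hh, ← hh', QuotientGroup.out_eq', QuotientGroup.out_eq'] at this
  -- the orbits
  have hcard0 : Nat.card (⊤ : Submodule (ZMod r) V0) = Nat.card V0 :=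
    Nat.card_congr Submodule.topEquiv.toEquiv
  rw [hcard0] at hbound
  have horb : Nat.card V0 - 1 ≤ g * K.index * Nat.card ι := by
    haveI : Fintype V0 := Fintype.ofFinite V0
    haveI : Fintype ι := Fintype.ofFinite ι
    set s := Finset.univ.filter fun v : V0 => v ≠ 0 with hs
    have hs' : s.card = Nat.card V0 - 1 := by
      rw [hs, Finset.filter_ne', Finset.card_erase_of_mem (Finset.mem_univ _), Finset.card_univ,
        Nat.card_eq_fintype_card]
    rw [← hs', Nat.card_eq_fintype_card, ← Finset.card_univ]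
    refine Finset.card_le_mul_card_image_of_maps_to (f := fun v : V0 => f v)
      (fun v _ => Finset.mem_univ _) _ fun i _ => ?_
    by_cases hne : (s.filter fun v : V0 => f (v : V) = i).Nonempty
    · obtain ⟨v, hv⟩ := hne
      rw [Finset.mem_filter, hs, Finset.mem_filter] at hv
      haveI : Fintype ((H1 ⧸ C1.subgroupOf H1) × (C1 ⧸ K)) := Fintype.ofFinite _
      refine le_trans (Finset.card_le_card (t := Finset.univ.image
        fun qt : (H1 ⧸ C1.subgroupOf H1) × (C1 ⧸ K) =>
          σ1 (Quotient.out qt.1) (σ (Quotient.out qt.2) v)) ?_) ?_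
      · intro w hw
        rw [Finset.mem_filter, hs, Finset.mem_filter] at hw
        obtain ⟨h, hh⟩ := hf v w (fun h => hv.1.2 (Subtype.ext h)) (fun h => hw.1.2 (Subtype.ext h))
          (hv.2.trans hw.2.symm)
        have hfwd : ∀ y ∈ A0, h * y * h⁻¹ ∈ A0 := by
          intro y hy
          by_contra hy0
          refine hw.1.2 (Subtype.ext (hout _ (hAn.conj_mem y (h0A hy) h) hy0 w w.2 ?_))
          rw [← hh, ← hmulap, show h * y * h⁻¹ * h = h * y by group, hmulap, v.2 y hy]
        have hhH1 : h ∈ H1 := hH1.2 fun y => ⟨hfwd y, fun hy => by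
          have hbij : Function.Bijective fun z : A0 => (⟨h * z * h⁻¹, hfwd z z.2⟩ : A0) :=
            Finite.injective_iff_bijective.1 fun z z' hzz => Subtype.ext (by
              simpa using congrArg Subtype.val hzz)
          obtain ⟨z, hz'⟩ := hbij.2 ⟨_, hy⟩
          have : (z : H) = y := by simpa using congrArg Subtype.val hz'
          exact this ▸ z.2⟩
        obtain ⟨⟨c, hc⟩, hce⟩ := QuotientGroup.mk_out_eq_mul (C1.subgroupOf H1) ⟨h, hhH1⟩
        let c' : C1 := ⟨((c : H1) : H), hc⟩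
        obtain ⟨⟨k, hk⟩, hke⟩ := QuotientGroup.mk_out_eq_mul K c'⁻¹
        rw [Finset.mem_image]
        refine ⟨((⟨h, hhH1⟩ : H1), (c'⁻¹ : C1)), Finset.mem_univ _, Subtype.ext ?_⟩
        change ρ ((Quotient.out ((⟨h, hhH1⟩ : H1) : H1 ⧸ C1.subgroupOf H1) : H1) : H)
          (ρ ((Quotient.out ((c'⁻¹ : C1) : C1 ⧸ K) : C1) : H) v) = w
        rw [hce, hke, Subgroup.coe_mul C1, hmulap ((c'⁻¹ : C1) : H)]
        rw [show ρ ((k : C1) : H) (v : V) = v from congrArg Subtype.val (hk v Submodule.mem_top)]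
        rw [← hmulap]
        simp only [c', Subgroup.coe_mul, InvMemClass.coe_inv, mul_inv_cancel_right]
        exact hh
      · refine Finset.card_image_le.trans (le_of_eq ?_)
        rw [Finset.card_univ, ← Nat.card_eq_fintype_card, Nat.card_prod]
        rfl
    · rw [Finset.not_nonempty_iff_eq_empty.1 hne]; simp
  -- conclusion
  set k := Nat.card (ConjClasses H) with hk
  set n := Nat.card ι with hn
  have hg : 0 < g := Nat.pos_of_ne_zero Subgroup.index_ne_zero_of_finite
  have hK0 : A0.subgroupOf C1 ≤ K := fun x hx v _ => Subtype.ext (v.2 x hx)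
  have hKa : aT ∉ K := fun h => hv₁0 (congrArg Subtype.val
    (hfree ⟨v₁, hv₁⟩ (h ⟨v₁, hv₁⟩ Submodule.mem_top)))
  by_cases hsmall : (g : ℝ) ≤ 3 * Real.logb 2 p
  · haveI : (K ⊔ Subgroup.zpowers aT).Normal := ⟨fun x hx c => by
      obtain ⟨k, hk, z, hz, rfl⟩ := Subgroup.mem_sup_of_normal_left.1 hx
      obtain ⟨i, rfl⟩ := Subgroup.mem_zpowers_iff.1 hz
      rw [show c * (k * aT ^ i) * c⁻¹ = (c * k * c⁻¹) * (c * aT * c⁻¹) ^ i by rw [conj_zpow]; group]
      refine Subgroup.mul_mem _ (Subgroup.mem_sup_left (hKn.conj_mem k hk c))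
        (Subgroup.zpow_mem _ ?_ i)
      rw [show c * aT * c⁻¹ = ⁅c, aT⁆ * aT by simp [commutatorElement_def]]
      exact Subgroup.mul_mem _ (Subgroup.mem_sup_left (hK0 (c.2 a haA)))
        (Subgroup.mem_sup_right (Subgroup.mem_zpowers _))⟩
    have hcc := char_count (A0 := A0) h0A haA (p := p) (hAp a haA) hgen hC1 (fun h hh => hH1.2 hh)
      hC1n hAC (B := K ⊔ Subgroup.zpowers aT) (D := ⊤) hK0 hKa le_sup_left
      (Subgroup.mem_sup_right (Subgroup.mem_zpowers _)) le_top
      (fun d _ b hb => by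
        obtain ⟨k', hk', z, hz, rfl⟩ := Subgroup.mem_sup_of_normal_left.1 hb
        obtain ⟨i, rfl⟩ := Subgroup.mem_zpowers_iff.1 hz
        rw [← QuotientGroup.eq_one_iff, ← QuotientGroup.mk'_apply, map_commutatorElement,
          map_mul, (QuotientGroup.eq_one_iff k').2 hk' |> fun h => (h : QuotientGroup.mk' K k' = 1),
          one_mul, map_zpow, commutatorElement_eq_one_iff_mul_comm]
        refine (Commute.zpow_right ?_ i).eq
        rw [Commute, SemiconjBy, ← commutatorElement_eq_one_iff_mul_comm, ← map_commutatorElement,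
          QuotientGroup.mk'_apply, QuotientGroup.eq_one_iff]
        exact hK0 (d.2 a haA))
    have hb : p ≤ K.relIndex (K ⊔ Subgroup.zpowers aT) := by
      let aq : (K ⊔ Subgroup.zpowers aT : Subgroup C1) ⧸
          K.subgroupOf (K ⊔ Subgroup.zpowers aT) :=
        ((⟨aT, Subgroup.mem_sup_right (Subgroup.mem_zpowers _)⟩ :
          (K ⊔ Subgroup.zpowers aT : Subgroup C1)))
      have : orderOf aq = p := by
        refine orderOf_eq_prime ?_ fun h => hKa ?_
        · rw [← QuotientGroup.mk_pow, QuotientGroup.eq_one_iff, Subgroup.mem_subgroupOf]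
          change aT ^ p ∈ K
          rw [haTp]; exact K.one_mem
        · exact Subgroup.mem_subgroupOf.1 ((QuotientGroup.eq_one_iff _).1 h)
      exact this ▸ orderOf_le_card
    rw [← hgdef, Subgroup.index_top, mul_one, ← hk] at hcc
    refine (small_automiser (g := g) (k := k) (by omega) hg hsmall ?_).trans ?_
    · refine Nat.le_of_mul_le_mul_left ?_ hp.out.pos
      calc p * (p - 1 + g) = (p - 1) * p + p * g := by ring
        _ ≤ (p - 1) * K.relIndex (K ⊔ Subgroup.zpowers aT) + p * g :=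
          Nat.add_le_add_right (Nat.mul_le_mul_left _ hb) _
        _ ≤ p * g * k := hcc
        _ = p * (g * k) := mul_assoc _ _ _
    · exact Nat.cast_le.2 (Nat.le_add_right _ _)
  · refine large_automiser (g := g) (by omega) (lt_of_not_ge hsmall) ?_
    haveI := hBn
    have hcc := char_count (A0 := A0) h0A haA (p := p) (hAp a haA) hgen hC1 (fun h hh => hH1.2 hh)
      hC1n hAC (B := B) (D := D) hK0 hKa hKB haB hBD hcomm
    rw [← hgdef, ← hk] at hcc
    set b := K.relIndex B
    set c := D.index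
    set d := B.relIndex D
    have hKi : K.index = b * d * c := by
      rw [mul_assoc, Subgroup.relIndex_mul_index hBD, Subgroup.relIndex_mul_index hKB]
    rw [hKi] at horb
    have hbpos : 0 < b := Nat.pos_of_ne_zero Subgroup.index_ne_zero_of_finite
    have hdpos : 0 < d := Nat.pos_of_ne_zero Subgroup.index_ne_zero_of_finite
    have hV2 : 2 ≤ Nat.card V0 := Finite.one_lt_card
    obtain ⟨p', hp'⟩ : ∃ p', p = p' + 2 := ⟨p - 2, by omega⟩
    obtain ⟨m, hm⟩ : ∃ m, Nat.card V0 = m + 2 := ⟨Nat.card V0 - 2, by omega⟩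
    rw [hm] at horb hbound
    rw [show p - 1 = p' + 1 by omega] at hcc
    rw [show m + 2 - 1 = m + 1 by omega] at horb
    have hX : (p' + 1) * b * (b * d) + p * (m + 1) ≤ g * (k + n) * (p * (c * d * b)) := by
      have h1 : (p' + 1) * b * (b * d) ≤ p * (g * c) * k * (b * d) :=
        Nat.mul_le_mul_right _ (le_trans (Nat.le_add_right _ _) hcc)
      have h2 : p * (m + 1) ≤ p * (g * (b * d * c) * n) := Nat.mul_le_mul_left _ horb
      calc _ ≤ p * (g * c) * k * (b * d) + p * (g * (b * d * c) * n) := Nat.add_le_add h1 h2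
        _ = _ := by ring
    have hsq : (m + 2) * (p * p * (b * b * d)) ≤
        (g * (k + n)) ^ 2 * (c ^ 2 * d) * (p * p * (b * b * d)) := by
      have h4 : ∀ x y : ℕ, 4 * (x * y) ≤ (x + y) ^ 2 := fun x y => by
        zify; nlinarith [sq_nonneg ((x : ℤ) - y)]
      have h3 : (m + 2) * p ≤ 4 * ((p' + 1) * (m + 1)) := by rw [hp']; ring_nf; omega
      calc (m + 2) * (p * p * (b * b * d)) = (m + 2) * p * (p * (b * b * d)) := by ring
        _ ≤ 4 * ((p' + 1) * (m + 1)) * (p * (b * b * d)) := Nat.mul_le_mul_right _ h3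
        _ = 4 * ((p' + 1) * b * (b * d) * (p * (m + 1))) := by ring
        _ ≤ ((p' + 1) * b * (b * d) + p * (m + 1)) ^ 2 := h4 _ _
        _ ≤ (g * (k + n) * (p * (c * d * b))) ^ 2 := Nat.pow_le_pow_left hX 2
        _ = _ := by ring
    have hV : m + 2 ≤ (g * (k + n)) ^ 2 * (c ^ 2 * d) :=
      Nat.le_of_mul_le_mul_right hsq (by positivity)
    have h6 : 4 ^ g * (c ^ 2 * d) ^ 3 ≤ (g * (k + n)) ^ 6 * (c ^ 2 * d) ^ 3 :=
      calc 4 ^ g * (c ^ 2 * d) ^ 3 ≤ 4 ^ P.natDegree * (c ^ 2 * d) ^ 3 :=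
            Nat.mul_le_mul_right _ (Nat.pow_le_pow_right (by norm_num) hgP)
        _ ≤ (m + 2) ^ 3 := hbound
        _ ≤ ((g * (k + n)) ^ 2 * (c ^ 2 * d)) ^ 3 := Nat.pow_le_pow_left hV 3
        _ = _ := by ring
    have hcpos : 0 < c := Nat.pos_of_ne_zero Subgroup.index_ne_zero_of_finite
    have h7 := Nat.le_of_mul_le_mul_right h6 (by positivity)
    refine (Nat.pow_le_pow_iff_left (show 2 ≠ 0 by norm_num)).1 ?_
    rw [← pow_mul, ← pow_mul, mul_comm g 2, pow_mul]
    exact h7

end Cfsg.Agent.ClassPrime
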