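import Cfsg.Agent.Lib.ClassPrime.Main
import Cfsg.Agent.Lib.Solvable.Fitting
import Cfsg.Agent.Lib.Solvable.Basic
import Mathlib.GroupTheory.Nilpotent

/-!
The class number of a solvable group and a prime dividing the index of the Fitting subgroup.
-/

set_option autoImplicit false
set_option linter.style.haveILetI false

open Module

namespace Cfsg.Agent.ClassPrime

universe u

/-- Class number at least three above order two. -/
theorem three_le_classes {H : Type u} [Group H] [Finite H] (h : 3 ≤ Nat.card H) :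
    3 ≤ Nat.card (ConjClasses H) := by
  classical
  by_contra hlt
  haveI : Finite (ConjClasses H) := Finite.of_surjective ConjClasses.mk ConjClasses.mk_surjective
  haveI : Nontrivial H := Finite.one_lt_card_iff_nontrivial.1 (by omega)
  obtain ⟨x, hx⟩ := exists_ne (1 : H)
  have hne1 : ∀ y : H, y ≠ 1 → ConjClasses.mk y ≠ ConjClasses.mk 1 := fun y hy h =>
    hy (isConj_one_left.1 (ConjClasses.mk_eq_mk_iff_isConj.1 h))
  have hall : ∀ y : H, y ≠ 1 → ConjClasses.mk y = ConjClasses.mk x := by
    intro y hy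
    by_contra hne
    have : Fintype.card (Fin 3) ≤ Nat.card (ConjClasses H) := by
      rw [← Nat.card_eq_fintype_card]
      refine Nat.card_le_card_of_injective
        ![ConjClasses.mk 1, ConjClasses.mk x, ConjClasses.mk y] ?_
      intro i j hij
      have h1 := hne1 x hx
      have h2 := hne1 y hy
      fin_cases i <;> fin_cases j <;> first | rfl | (simp at hij; tauto)
    simp at this; omega
  have hcls : Nat.card {y : H // y ≠ 1} ∣ Nat.card H := by
    have heq : Nat.card {y : H // y ≠ 1} = (Subgroup.centralizer ({x} : Set H)).index := by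
      rw [Subgroup.index]
      refine (Nat.card_eq_of_bijective (fun q : H ⧸ Subgroup.centralizer ({x} : Set H) =>
        (⟨Quotient.out q * x * (Quotient.out q)⁻¹, fun h => hx (by
          simpa using h)⟩ : {y : H // y ≠ 1})) ⟨fun q q' hqq => ?_, fun y => ?_⟩).symm
      · have h1 := congrArg Subtype.val hqq
        simp only at h1
        rw [← QuotientGroup.out_eq' q, ← QuotientGroup.out_eq' q', QuotientGroup.eq,
          Subgroup.mem_centralizer_singleton_iff]
        calc (Quotient.out q)⁻¹ * Quotient.out q' * x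
            = (Quotient.out q)⁻¹ * (Quotient.out q' * x * (Quotient.out q')⁻¹) * Quotient.out q' := by
              group
          _ = x * ((Quotient.out q)⁻¹ * Quotient.out q') := by rw [← h1]; group
      · obtain ⟨c, hc⟩ := isConj_iff.1 (ConjClasses.mk_eq_mk_iff_isConj.1 (hall y y.2).symm)
        obtain ⟨⟨d, hd⟩, hde⟩ :=
          QuotientGroup.mk_out_eq_mul (Subgroup.centralizer ({x} : Set H)) c
        refine ⟨(c : H ⧸ Subgroup.centralizer ({x} : Set H)), Subtype.ext ?_⟩
        simp only
        rw [hde, mul_inv_rev, mul_assoc c d x, Subgroup.mem_centralizer_singleton_iff.1 hd, ← hc]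
        group
    rw [heq]
    exact Subgroup.index_dvd_card _
  have hc : Nat.card {y : H // y ≠ 1} = Nat.card H - 1 := by
    haveI := Fintype.ofFinite H
    rw [Nat.card_eq_fintype_card, Fintype.card_subtype, Finset.filter_ne',
      Finset.card_erase_of_mem (Finset.mem_univ _), Finset.card_univ, Nat.card_eq_fintype_card]
  rw [hc] at hcls
  have h1 : Nat.card H - 1 ∣ 1 := by
    have := Nat.dvd_sub hcls (dvd_refl (Nat.card H - 1))
    rwa [show Nat.card H - (Nat.card H - 1) = 1 by omega] at this
  have := Nat.le_of_dvd one_pos h1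
  omega

/-- Classes of a quotient and the classes inside the kernel. -/
theorem card_classes_quotient {G : Type u} [Group G] [Finite G] (C : Subgroup G) [C.Normal]
    (S : Set (ConjClasses G)) (hS : ∀ c ∈ S, c ≠ ConjClasses.mk 1 ∧
      ConjClasses.map (QuotientGroup.mk' C) c = ConjClasses.mk 1) :
    Nat.card (ConjClasses (G ⧸ C)) + Nat.card S ≤ Nat.card (ConjClasses G) := by
  classical
  haveI : Finite (ConjClasses G) := Finite.of_surjective ConjClasses.mk ConjClasses.mk_surjective
  haveI : Finite (ConjClasses (G ⧸ C)) :=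
    Finite.of_surjective ConjClasses.mk ConjClasses.mk_surjective
  have hsurj := ConjClasses.map_surjective (QuotientGroup.mk'_surjective C)
  choose sec hsec using hsurj
  rw [← Nat.card_sum]
  refine Nat.card_le_card_of_injective
    (Sum.elim (fun d => if d = ConjClasses.mk 1 then ConjClasses.mk 1 else sec d) Subtype.val) ?_
  rintro (d | s) (d' | s') h <;> simp only [Sum.elim_inl, Sum.elim_inr] at h
  · have hm : ∀ d, ConjClasses.map (QuotientGroup.mk' C)
        (if d = ConjClasses.mk 1 then ConjClasses.mk 1 else sec d) = d := by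
      intro d
      split_ifs with hd
      · rw [hd]; exact congrArg ConjClasses.mk (map_one (QuotientGroup.mk' C))
      · exact hsec d
    rw [← hm d, ← hm d', h]
  · exfalso
    split_ifs at h with hd
    · exact (hS _ s'.2).1 h.symm
    · exact hd ((hsec d).symm.trans (h ▸ (hS _ s'.2).2))
  · exfalso
    split_ifs at h with hd
    · exact (hS _ s.2).1 h
    · exact hd ((hsec d').symm.trans (h.symm ▸ (hS _ s.2).2))
  · exact congrArg Sum.inr (Subtype.ext h)

set_option maxHeartbeats 800000 in
theorem class_bound : ∀ (n : ℕ) (G : Type u) [Group G] [Finite G], Nat.card G = n →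
    Group.IsSolvable G → ∀ (p : ℕ) [Fact p.Prime], 30 ≤ p →
    p ∣ (Cfsg.fittingSubgroup G).index →
    (p : ℝ) / (3 * Real.logb 2 p) ≤ Nat.card (ConjClasses G) := by
  intro n
  induction n using Nat.strong_induction_on with
  | _ n IH =>
  intro G _ _ hn hsol p hp hp30 hdvd
  classical
  haveI : Finite (ConjClasses G) := Finite.of_surjective ConjClasses.mk ConjClasses.mk_surjective
  haveI : Nontrivial G := by
    refine Finite.one_lt_card_iff_nontrivial.1 ?_
    have h1 := Nat.le_of_dvd Nat.card_pos (hdvd.trans (Subgroup.index_dvd_card _))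
    omega
  obtain ⟨N, r, hr, hNn, hN, -, hNc, hNr, -, hmin⟩ :=
    SolvBasic.exists_minimal_normal_abelian (N := (⊤ : Subgroup G)) inferInstance top_ne_bot
  haveI := Fact.mk hr
  haveI := hNn
  let _ : CommGroup N := { (inferInstance : Group N) with mul_comm := hNc.1.comm }
  by_cases hq : p ∣ (Cfsg.fittingSubgroup (G ⧸ N)).index
  · have hlt : Nat.card (G ⧸ N) < n := by
      rw [← hn, N.card_eq_card_quotient_mul_card_subgroup]
      exact lt_mul_of_one_lt_right Nat.card_pos
        (Finite.one_lt_card_iff_nontrivial.2 ((Subgroup.nontrivial_iff_ne_bot _).2 hN))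
    haveI : Group.IsSolvable (G ⧸ N) :=
      Group.isSolvable_of_surjective (QuotientGroup.mk'_surjective N)
    refine (IH _ hlt (G ⧸ N) rfl inferInstance p hp30 hq).trans (Nat.cast_le.2 ?_)
    exact Nat.card_le_card_of_surjective _
      (ConjClasses.map_surjective (QuotientGroup.mk'_surjective N))
  -- the action on `N`
  have hexp : ∀ x : Additive N, r • x = 0 := fun x => by
    apply Additive.toMul.injective
    rw [toMul_nsmul]
    exact Subtype.ext (hNr _ (Additive.toMul x).2)
  haveI : Module (ZMod r) (Additive N) := AddCommGroup.zmodModule hexp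
  let Φ : G →* Module.End (ZMod r) (Additive N) :=
    { toFun := fun g => AddMonoidHom.toZModLinearMap r
        (MonoidHom.toAdditive (MulAut.conjNormal g : N ≃* N).toMonoidHom)
      map_one' := by
        refine LinearMap.ext fun x => Additive.toMul.injective (Subtype.ext ?_)
        simp
      map_mul' := fun g h => by
        refine LinearMap.ext fun x => Additive.toMul.injective (Subtype.ext ?_)
        simp [mul_assoc] }
  have hΦ : ∀ (g : G) (x : Additive N),
      ((Additive.toMul (Φ g x) : N) : G) = g * (Additive.toMul x : N) * g⁻¹ := fun g x => by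
    simp [Φ]
  have hkerN : ∀ g, g ∈ Φ.ker ↔ ∀ x ∈ N, g * x = x * g := by
    intro g
    rw [MonoidHom.mem_ker]
    constructor
    · intro h x hx
      have h1 := hΦ g (Additive.ofMul (⟨x, hx⟩ : N))
      rw [h] at h1
      exact (eq_mul_inv_iff_mul_eq.1 h1).symm
    · intro h
      refine LinearMap.ext fun x => Additive.toMul.injective (Subtype.ext ?_)
      rw [hΦ, h _ (Additive.toMul x : N).2, mul_inv_cancel_right]
      rfl
  have hNker : N ≤ Φ.ker := fun x hx => (hkerN x).2 fun y hy =>
    congrArg Subtype.val (hNc.1.comm ⟨x, hx⟩ ⟨y, hy⟩)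
  set H := G ⧸ Φ.ker
  have hpH : p ∣ Nat.card H := by
    set F := Cfsg.fittingSubgroup G
    set F1 := (Cfsg.fittingSubgroup (G ⧸ N)).comap (QuotientGroup.mk' N) with hF1
    haveI : (Cfsg.fittingSubgroup (G ⧸ N)).Normal := FittingCores.fitting_normal
    have hF1n : F1.Normal := inferInstance
    have hFF1 : F ≤ F1 :=
      Subgroup.map_le_iff_le_comap.1 (FittingCores.fitting_map_le (QuotientGroup.mk'_surjective N))
    have h1 : ¬ p ∣ F1.index := by
      rwa [hF1, Subgroup.index_comap_of_surjective _ (QuotientGroup.mk'_surjective N)]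
    have h2 : p ∣ F.relIndex F1 := by
      rw [← Subgroup.relIndex_mul_index hFF1] at hdvd
      exact (hp.out.dvd_mul.1 hdvd).resolve_right h1
    have hnil : Group.IsNilpotent (F1 ⊓ Φ.ker : Subgroup G) := by
      let f : (F1 ⊓ Φ.ker : Subgroup G) →* Cfsg.fittingSubgroup (G ⧸ N) :=
        ((QuotientGroup.mk' N).comp (F1 ⊓ Φ.ker).subtype).codRestrict _ fun x => x.2.1
      haveI := FittingCores.fitting_nilpotent (G := G ⧸ N)
      refine Subgroup.isNilpotent_of_ker_le_center f ?_
      intro x hx
      have hxN : (x : G) ∈ N := (QuotientGroup.eq_one_iff _).1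
        (congrArg Subtype.val (MonoidHom.mem_ker.1 hx))
      exact Subgroup.mem_center_iff.2 fun y => Subtype.ext ((hkerN y).1 y.2.2 x hxN)
    have h3 : F1 ⊓ Φ.ker ≤ F := FittingCores.le_fitting inferInstance hnil
    have h4 : p ∣ (F1 ⊓ Φ.ker).relIndex F1 := h2.trans (Subgroup.relIndex_dvd_of_le_left _ h3)
    rw [inf_comm, Subgroup.inf_relIndex_right] at h4
    exact h4.trans (Subgroup.relIndex_dvd_index_of_normal _ _)
  have hHlt : Nat.card H < n := by
    rw [← hn, Φ.ker.card_eq_card_quotient_mul_card_subgroup]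
    refine lt_mul_of_one_lt_right Nat.card_pos ?_
    exact lt_of_lt_of_le (Finite.one_lt_card_iff_nontrivial.2
      ((Subgroup.nontrivial_iff_ne_bot _).2 hN)) (Subgroup.card_le_of_le hNker)
  haveI : Group.IsSolvable H := Group.isSolvable_of_surjective (QuotientGroup.mk'_surjective Φ.ker)
  have hmapH : Nat.card (ConjClasses H) ≤ Nat.card (ConjClasses G) :=
    Nat.card_le_card_of_surjective _
      (ConjClasses.map_surjective (QuotientGroup.mk'_surjective Φ.ker))
  by_cases hH : p ∣ (Cfsg.fittingSubgroup H).index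
  · exact (IH _ hHlt H rfl inferInstance p hp30 hH).trans (Nat.cast_le.2 hmapH)
  -- classes inside `N`
  let S : Set (ConjClasses G) := {c | ∃ x : G, x ∈ N ∧ x ≠ 1 ∧ ConjClasses.mk x = c}
  have hadd : Nat.card (ConjClasses H) + Nat.card S ≤ Nat.card (ConjClasses G) := by
    refine card_classes_quotient Φ.ker S ?_
    rintro c ⟨x, hxN, hx1, rfl⟩
    exact ⟨fun h => hx1 (isConj_one_left.1 (ConjClasses.mk_eq_mk_iff_isConj.1 h)),
      congrArg ConjClasses.mk ((QuotientGroup.eq_one_iff x).2 (hNker hxN))⟩
  obtain ⟨x₀, hx₀⟩ := (Subgroup.ne_bot_iff_exists_ne_one.1 hN)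
  have hSne : Nonempty S :=
    ⟨⟨_, (x₀ : G), x₀.2, fun h => hx₀ (Subtype.ext h), rfl⟩⟩
  by_cases h64 : p < 64
  · refine (small_prime_four hp30 h64).trans ?_
    have h3 : 3 ≤ Nat.card (ConjClasses H) := by
      have hp1 := Nat.le_of_dvd Nat.card_pos hpH
      exact three_le_classes (by omega)
    have h1 : 0 < Nat.card S := Nat.card_pos
    exact_mod_cast (show 4 ≤ Nat.card (ConjClasses G) by omega)
  haveI hFn : (Cfsg.fittingSubgroup H).Normal := FittingCores.fitting_normal
  haveI := FittingCores.fitting_nilpotent (G := H)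
  have hpF : p ∣ Nat.card (Cfsg.fittingSubgroup H) := by
    rw [← Subgroup.card_mul_index (Cfsg.fittingSubgroup H)] at hpH
    exact (hp.out.dvd_mul.1 hpH).resolve_right hH
  obtain ⟨P⟩ : Nonempty (Sylow p (Cfsg.fittingSubgroup H)) := inferInstance
  have hO : Cfsg.pCore p H ≠ ⊥ := by
    intro h0
    have hle := FittingCores.sylow_le_pCore_of_nilpotent hFn p P
    rw [h0, le_bot_iff, Subgroup.map_eq_bot_iff_of_injective _ Subtype.val_injective] at hle
    have hdP := P.dvd_card_of_dvd_card hpF
    rw [hle, Subgroup.card_bot] at hdP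
    exact hp.out.not_dvd_one hdP
  haveI hOn : (Cfsg.pCore p H).Normal := FittingCores.pCore_normal p
  obtain ⟨A, q, hqp, hAn, hA, hAO, hAc, hAq, hAqg, -⟩ :=
    SolvBasic.exists_minimal_normal_abelian (G := H) (N := Cfsg.pCore p H) hOn hO
  haveI := hAn
  have hqeq : q = p := by
    haveI := Fact.mk hqp
    obtain ⟨y, hy⟩ := Subgroup.ne_bot_iff_exists_ne_one.1 hA
    obtain ⟨k, hk⟩ := (FittingCores.pCore_isPGroup (G := H) p) ⟨y, hAO y.2⟩
    have h1 : orderOf (y : H) ∣ p ^ k := orderOf_dvd_of_pow_eq_one (congrArg Subtype.val hk)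
    have h2 : orderOf (y : H) = q := orderOf_eq_prime (hAq y y.2) fun h => hy (Subtype.ext h)
    rw [h2] at h1
    exact (Nat.prime_dvd_prime_iff_eq hqp hp.out).1 (hqp.dvd_of_dvd_pow h1)
  subst hqeq
  haveI : Nontrivial N := (Subgroup.nontrivial_iff_ne_bot _).2 hN
  let ρ : H →* Module.End (ZMod r) (Additive N) :=
    QuotientGroup.lift Φ.ker Φ fun g hg => MonoidHom.mem_ker.1 hg
  have hρ : Function.Injective ρ := by
    rw [injective_iff_map_eq_one]
    intro x hx
    induction x using QuotientGroup.induction_on with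
    | H g => exact (QuotientGroup.eq_one_iff g).2 (MonoidHom.mem_ker.2 hx)
  have hirr : ∀ U : Submodule (ZMod r) (Additive N), (∀ h, ∀ v ∈ U, ρ h v ∈ U) → U = ⊥ ∨ U = ⊤ := by
    intro U hU
    let M : Subgroup G :=
      { carrier := {x | ∃ hx : x ∈ N, Additive.ofMul (⟨x, hx⟩ : N) ∈ U}
        one_mem' := ⟨N.one_mem, U.zero_mem⟩
        mul_mem' := by
          rintro x y ⟨hx, hx'⟩ ⟨hy, hy'⟩
          exact ⟨N.mul_mem hx hy, U.add_mem hx' hy'⟩
        inv_mem' := by
          rintro x ⟨hx, hx'⟩
          exact ⟨N.inv_mem hx, U.neg_mem hx'⟩ }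
    have hMn : M.Normal := ⟨fun x ⟨hx, hx'⟩ g => by
      refine ⟨hNn.conj_mem x hx g, ?_⟩
      have h1 := hU (g : H) _ hx'
      have e : Additive.ofMul (⟨g * x * g⁻¹, hNn.conj_mem x hx g⟩ : N) =
          ρ (g : H) (Additive.ofMul ⟨x, hx⟩) :=
        Additive.toMul.injective (Subtype.ext (hΦ g (Additive.ofMul ⟨x, hx⟩)).symm)
      rw [e]; exact h1⟩
    rcases hmin M hMn fun x hx => hx.1 with h | h
    · refine Or.inl ((Submodule.eq_bot_iff U).2 fun v hv => ?_)
      have hm : ((Additive.toMul v : N) : G) ∈ M := ⟨(Additive.toMul v : N).2, hv⟩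
      rw [h, Subgroup.mem_bot] at hm
      exact Additive.toMul.injective (Subtype.ext hm)
    · refine Or.inr (Submodule.eq_top_iff'.2 fun v => ?_)
      obtain ⟨_, hv⟩ := (h.symm ▸ (Additive.toMul v : N).2 : ((Additive.toMul v : N) : G) ∈ M)
      exact hv
  haveI : Finite S := inferInstance
  let f : Additive N → S := fun v =>
    if hv : v = 0 then Classical.arbitrary S else
      ⟨_, ((Additive.toMul v : N) : G), (Additive.toMul v : N).2,
        fun h => hv (Additive.toMul.injective (Subtype.ext h)), rfl⟩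
  have hf : ∀ v w, v ≠ 0 → w ≠ 0 → f v = f w → ∃ h, ρ h v = w := by
    intro v w hv hw hfvw
    simp only [f, dif_neg hv, dif_neg hw, Subtype.mk.injEq] at hfvw
    obtain ⟨g, hg⟩ := isConj_iff.1 (ConjClasses.mk_eq_mk_iff_isConj.1 hfvw)
    refine ⟨(g : H), Additive.toMul.injective (Subtype.ext ?_)⟩
    exact (hΦ g v).trans hg
  refine (module_bound (H := H) inferInstance ρ hρ hirr (A := A) hA hAc (by omega) hAq f hf).trans ?_
  exact Nat.cast_le.2 hadd

theorem main {G : Type u} [Group G] [Finite G] (hG : Group.IsSolvable G) (p : ℕ) [hp : Fact p.Prime]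
    (hdvd : p ∣ (Cfsg.fittingSubgroup G).index) :
    (p : ℝ) / (3 * Real.logb 2 p) ≤ Nat.card (ConjClasses G) := by
  by_cases h : p < 30
  · refine (small_prime_two hp.out h).trans ?_
    haveI : Finite (ConjClasses G) := Finite.of_surjective ConjClasses.mk ConjClasses.mk_surjective
    have h1 := Nat.le_of_dvd Nat.card_pos (hdvd.trans (Subgroup.index_dvd_card _))
    haveI : Nontrivial G := Finite.one_lt_card_iff_nontrivial.1 (hp.out.one_lt.trans_le h1)
    obtain ⟨x, hx⟩ := exists_ne (1 : G)
    haveI : Nontrivial (ConjClasses G) := ⟨ConjClasses.mk x, ConjClasses.mk 1, fun he =>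
      hx (isConj_one_left.1 (ConjClasses.mk_eq_mk_iff_isConj.1 he))⟩
    have h2 : 2 ≤ Nat.card (ConjClasses G) := Finite.one_lt_card
    exact_mod_cast h2
  · exact class_bound _ G rfl hG p (not_lt.1 h) hdvd

end Cfsg.Agent.ClassPrime
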