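import Cfsg.Agent.Lib.ClassPrime.Arith
import Cfsg.Agent.Lib.Solvable.Basic
import Mathlib.GroupTheory.GroupAction.Quotient
import Mathlib.GroupTheory.GroupAction.ConjAct

/-!
A solvable permutation group of degree `n` has order at most `4 ^ (n - 1)`; counting homomorphisms
on a finite group through a small generating set.
-/

set_option autoImplicit false
set_option linter.style.haveILetI false

namespace Cfsg.Agent.ClassPrime

universe v

/-- A finite group has a generating set `S` with `2 ^ |S| ≤ |M|`. -/
theorem exists_generating (M : Type*) [Group M] [Finite M] :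
    ∃ S : Finset M, Subgroup.closure (S : Set M) = ⊤ ∧ 2 ^ S.card ≤ Nat.card M := by
  classical
  have key : ∀ n : ℕ, ∀ S : Finset M, Nat.card M - Nat.card (Subgroup.closure (S : Set M)) = n →
      2 ^ S.card ≤ Nat.card (Subgroup.closure (S : Set M)) →
      ∃ T : Finset M, Subgroup.closure (T : Set M) = ⊤ ∧ 2 ^ T.card ≤ Nat.card M := by
    intro n
    induction n using Nat.strong_induction_on with
    | _ n IH =>
    intro S hn hS
    set H := Subgroup.closure (S : Set M) with hH
    by_cases htop : H = ⊤
    · exact ⟨S, htop, hS.trans (Subgroup.card_le_card_group H)⟩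
    obtain ⟨x, hx⟩ : ∃ x, x ∉ H := by
      by_contra h; push Not at h; exact htop ((Subgroup.eq_top_iff' H).2 h)
    set H' := Subgroup.closure ((insert x S : Finset M) : Set M) with hH'
    have hle : H ≤ H' := Subgroup.closure_mono (by simp)
    have hx' : x ∈ H' := Subgroup.subset_closure (by simp)
    have hrel : 2 ≤ H.relIndex H' := by
      have h1 : H.relIndex H' ≠ 1 := fun h => hx (Subgroup.relIndex_eq_one.1 h hx')
      have h0 : H.relIndex H' ≠ 0 := by
        have : Finite (↥H' ⧸ H.subgroupOf H') := inferInstance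
        exact Subgroup.index_ne_zero_of_finite
      omega
    have hmul : Nat.card H * H.relIndex H' = Nat.card H' := by
      rw [← Subgroup.relIndex_bot_left, Subgroup.relIndex_mul_relIndex _ _ _ bot_le hle,
        Subgroup.relIndex_bot_left]
    have hge : 2 * Nat.card H ≤ Nat.card H' := by
      rw [← hmul, mul_comm 2]; exact Nat.mul_le_mul_left _ hrel
    have hpos : 0 < Nat.card H := Nat.card_pos
    have hH'le := Subgroup.card_le_card_group H'
    refine IH (Nat.card M - Nat.card H') (by omega) (insert x S) rfl (le_trans ?_ hge)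
    rw [Finset.card_insert_of_notMem (fun h => hx (Subgroup.subset_closure h)), pow_succ']
    exact Nat.mul_le_mul_left 2 hS
  exact key _ ∅ rfl (by simp)

/-- Homomorphisms are determined by their values on a small generating set. -/
theorem card_monoidHom_le (M N : Type*) [Group M] [Finite M] [Group N] [Finite N] :
    Nat.card (M →* N) ≤ Nat.card N ^ Nat.log 2 (Nat.card M) := by
  classical
  obtain ⟨S, hS, hcard⟩ := exists_generating M
  have h1 : Nat.card (M →* N) ≤ Nat.card (S → N) :=
    Nat.card_le_card_of_injective (fun f s => f s) fun f g hfg =>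
      MonoidHom.eq_of_eqOn_dense hS fun s hs => congrFun hfg ⟨s, hs⟩
  rw [Nat.card_fun, Nat.card_eq_fintype_card (α := S), Fintype.card_coe] at h1
  exact h1.trans (Nat.pow_le_pow_right Nat.card_pos (Nat.le_log_of_pow_le (by norm_num) hcard))

open MulAction in
/-- A solvable permutation group of degree `n` has order at most `4 ^ (n - 1)`. -/
theorem card_solvable_perm : ∀ (n : ℕ) (α : Type v) [Finite α] (S : Subgroup (Equiv.Perm α)),
    Group.IsSolvable S → Nat.card α = n → Nat.card S ≤ 4 ^ (n - 1) := by
  intro n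
  induction n using Nat.strong_induction_on with
  | _ n IH =>
  intro α _ S hsol hn
  classical
  by_cases hbot : S = ⊥
  · rw [hbot, Subgroup.card_bot]; exact Nat.one_le_pow _ _ (by norm_num)
  have hSne : (⊤ : Subgroup S) ≠ ⊥ := fun h => hbot (by
    rw [eq_bot_iff]
    intro x hx
    have : (⟨x, hx⟩ : S) ∈ (⊥ : Subgroup S) := h ▸ Subgroup.mem_top _
    rw [Subgroup.mem_bot] at this ⊢
    exact congrArg Subtype.val this)
  obtain ⟨U, q, -, hUn, hU, -, hUc, -, -, -⟩ :=
    SolvBasic.exists_minimal_normal_abelian (N := (⊤ : Subgroup S)) inferInstance hSne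
  obtain ⟨u₀, hu₀, hu₀1⟩ := (Subgroup.ne_bot_iff_exists_ne_one.1 hU) |>
    fun ⟨u, hu⟩ => (⟨u, u.2, fun h => hu (Subtype.ext h)⟩ : ∃ u : S, u ∈ U ∧ u ≠ 1)
  obtain ⟨a₀, ha₀⟩ : ∃ a : α, u₀ • a ≠ a := by
    by_contra h; push Not at h
    exact hu₀1 (Subtype.ext (Equiv.ext h))
  have hn0 : 0 < n := hn ▸ @Nat.card_pos α ⟨a₀⟩ _
  by_cases htrans : ∀ a b : α, ∃ u ∈ U, u • a = b
  · -- `U` is regular
    have hfix : ∀ u ∈ U, u • a₀ = a₀ → u = 1 := by
      intro u hu hua
      refine Subtype.ext (Equiv.ext fun b => ?_)
      obtain ⟨w, hw, rfl⟩ := htrans a₀ b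
      change u • w • a₀ = w • a₀
      have hc : u * w = w * u := congrArg Subtype.val (hUc.1.comm ⟨u, hu⟩ ⟨w, hw⟩)
      rw [← mul_smul, hc, mul_smul, hua]
    have hUcard : Nat.card U = n := by
      rw [← hn]
      refine Nat.card_eq_of_bijective (fun u : U => (u : S) • a₀) ⟨fun u w huw => ?_, fun b => ?_⟩
      · refine Subtype.ext (inv_mul_eq_one.1 (hfix _ (U.mul_mem (U.inv_mem w.2) u.2) ?_)).symm
        rw [mul_smul]; exact inv_smul_eq_iff.2 huw
      · obtain ⟨u, hu, rfl⟩ := htrans a₀ b; exact ⟨⟨u, hu⟩, rfl⟩
    have hidx : Nat.card S ≤ n * Nat.card (stabilizer S a₀) := by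
      have h := Nat.card_congr (orbitEquivQuotientStabilizer S a₀)
      have h2 : Nat.card (orbit S a₀) ≤ n := hn ▸ Nat.card_le_card_of_injective _
        Subtype.val_injective
      rw [(stabilizer S a₀).card_eq_card_quotient_mul_card_subgroup, ← h]
      exact Nat.mul_le_mul_right _ h2
    have : Finite (U →* U) := Finite.of_injective _ DFunLike.coe_injective
    have hst : Nat.card (stabilizer S a₀) ≤ Nat.card (U →* U) := by
      refine Nat.card_le_card_of_injective
        (fun s => ((MulAut.conjNormal (H := U) (s : S)) : U ≃* U).toMonoidHom) ?_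
      intro s t hst
      refine Subtype.ext (Subtype.ext (Equiv.ext fun b => ?_))
      obtain ⟨u, hu, rfl⟩ := htrans a₀ b
      have h1 : (s : S) * u * (s : S)⁻¹ = (t : S) * u * (t : S)⁻¹ := by
        have := congrArg Subtype.val (DFunLike.congr_fun hst ⟨u, hu⟩)
        simpa [MulAut.conjNormal_apply] using this
      have hs : (s : S) • a₀ = a₀ := s.2
      have ht : (t : S) • a₀ = a₀ := t.2
      change (s : S) • u • a₀ = (t : S) • u • a₀
      calc (s : S) • u • a₀ = ((s : S) * u * (s : S)⁻¹) • (s : S) • a₀ := by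
            rw [← mul_smul, ← mul_smul, inv_mul_cancel_right]
        _ = ((t : S) * u * (t : S)⁻¹) • (t : S) • a₀ := by rw [h1, hs, ht]
        _ = (t : S) • u • a₀ := by rw [← mul_smul, ← mul_smul, inv_mul_cancel_right]
    calc Nat.card S ≤ n * Nat.card (U →* U) := hidx.trans (Nat.mul_le_mul_left _ hst)
      _ ≤ n * n ^ Nat.log 2 n := by
          refine Nat.mul_le_mul_left _ ?_
          have := card_monoidHom_le U U
          rwa [hUcard] at this
      _ ≤ 4 ^ (n - 1) := regular_bound n hn0
  · -- the orbits of `U` are blocks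
    push Not at htrans
    let Q := orbitRel.Quotient U α
    have hmap : ∀ (g : S) (a b : α), orbitRel U α a b → orbitRel U α (g • a) (g • b) := by
      intro g a b hab
      rw [orbitRel_apply, mem_orbit_iff] at hab ⊢
      obtain ⟨u, rfl⟩ := hab
      refine ⟨⟨g * (u : S) * g⁻¹, hUn.conj_mem u u.2 g⟩, ?_⟩
      change (g * (u : S) * g⁻¹) • g • b = g • (u : S) • b
      rw [← mul_smul, ← mul_smul, inv_mul_cancel_right]
    let act : S → Q → Q := fun g => Quotient.map' (fun a => g • a) (hmap g)
    have act_mk : ∀ g a, act g (Quotient.mk'' a) = Quotient.mk'' (g • a) := fun g a => rfl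
    have act_one : ∀ x, act 1 x = x := by
      intro x; induction x using Quotient.inductionOn' with
      | h a => rw [act_mk, one_smul]
    have act_mul : ∀ g h x, act (g * h) x = act g (act h x) := by
      intro g h x; induction x using Quotient.inductionOn' with
      | h a => rw [act_mk, act_mk, act_mk, mul_smul]
    letI : MulAction S Q := { smul := act, one_smul := act_one, mul_smul := act_mul }
    let φ : S →* Equiv.Perm Q := MulAction.toPermHom S Q
    let blk : Q → Type v := fun x => {a : α // Quotient.mk'' a = x}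
    let ψ : ∀ x : Q, φ.ker →* Equiv.Perm (blk x) := fun x =>
      { toFun := fun g => (Equiv.subtypeEquiv ((g : S) : Equiv.Perm α) (fun a => by
          have hg : ∀ y : Q, (g : S) • y = y := fun y =>
            Equiv.Perm.ext_iff.1 (MonoidHom.mem_ker.1 g.2) y
          have h1 : Quotient.mk'' (((g : S) : Equiv.Perm α) a) = (Quotient.mk'' a : Q) :=
            (act_mk (g : S) a).symm.trans (hg _)
          rw [h1]) : blk x ≃ blk x)
        map_one' := by ext; rfl
        map_mul' := fun g h => by ext; rfl }
    haveI hfin : Fintype Q := Fintype.ofFinite Q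
    have hker : Nat.card φ.ker ≤ ∏ x : Q, Nat.card (ψ x).range := by
      rw [← Nat.card_pi]
      refine Nat.card_le_card_of_injective (fun g x => (ψ x).rangeRestrict g) fun g h hgh => ?_
      refine Subtype.ext (Subtype.ext (Equiv.ext fun a => ?_))
      have := congrArg Subtype.val (congrFun hgh (Quotient.mk'' a))
      exact congrArg Subtype.val (Equiv.Perm.ext_iff.1 this ⟨a, rfl⟩)
    have hsum : ∑ x : Q, Nat.card (blk x) = n := by
      rw [← hn, ← Nat.card_sigma]
      exact Nat.card_congr (Equiv.sigmaFiberEquiv fun a : α => (Quotient.mk'' a : Q))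
    have hblkpos : ∀ x : Q, 0 < Nat.card (blk x) := by
      intro x; induction x using Quotient.inductionOn' with
      | h a => exact @Nat.card_pos _ ⟨⟨a, rfl⟩⟩ _
    have hblk : ∀ x : Q, Nat.card (blk x) < n := by
      intro x
      obtain ⟨a, b, hab⟩ := htrans
      by_contra hge
      push Not at hge
      have hsurj : Function.Surjective (Subtype.val : blk x → α) :=
        (Subtype.val_injective.bijective_of_nat_card_le (hn ▸ hge)).2
      obtain ⟨⟨a', ha'⟩, rfl⟩ := hsurj a
      obtain ⟨⟨b', hb'⟩, rfl⟩ := hsurj b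
      have hr : orbitRel U α b' a' := Quotient.eq''.1 (hb'.trans ha'.symm)
      rw [orbitRel_apply, mem_orbit_iff] at hr
      obtain ⟨u, hu⟩ := hr
      exact hab u u.2 hu
    have hQ : Nat.card Q < n := by
      rw [← hn]
      refine lt_of_le_of_ne (Nat.card_le_card_of_surjective
        (fun a : α => (Quotient.mk'' a : Q)) Quotient.mk''_surjective) fun he => ?_
      have hbij : Function.Bijective (fun a : α => (Quotient.mk'' a : Q)) :=
        Function.Surjective.bijective_of_nat_card_le Quotient.mk''_surjective he.ge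
      refine ha₀ (hbij.1 (Quotient.eq''.2 ?_))
      rw [orbitRel_apply, mem_orbit_iff]
      exact ⟨⟨u₀, hu₀⟩, rfl⟩
    have hQpos : 0 < Nat.card Q := @Nat.card_pos Q ⟨Quotient.mk'' a₀⟩ _
    have hrange : Nat.card φ.range ≤ 4 ^ (Nat.card Q - 1) :=
      IH _ hQ Q φ.range (Group.isSolvable_of_surjective φ.rangeRestrict_surjective) rfl
    have hblocks : ∀ x : Q, Nat.card (ψ x).range ≤ 4 ^ (Nat.card (blk x) - 1) := fun x =>
      IH _ (hblk x) (blk x) (ψ x).range
        (Group.isSolvable_of_surjective (ψ x).rangeRestrict_surjective) rfl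
    have hcard : Nat.card S = Nat.card φ.ker * Nat.card φ.range := by
      rw [← Nat.card_congr (QuotientGroup.quotientKerEquivRange φ).toEquiv, mul_comm]
      exact φ.ker.card_eq_card_quotient_mul_card_subgroup
    have hexp : ∑ x : Q, (Nat.card (blk x) - 1) = n - Nat.card Q := by
      have h1 : ∑ x : Q, (Nat.card (blk x) - 1) + Nat.card Q = n := by
        rw [Nat.card_eq_fintype_card, Fintype.card, Finset.card_eq_sum_ones,
          ← Finset.sum_add_distrib, ← hsum]
        exact Finset.sum_congr rfl fun x _ => Nat.sub_add_cancel (hblkpos x)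
      omega
    calc Nat.card S ≤ (∏ x : Q, 4 ^ (Nat.card (blk x) - 1)) * 4 ^ (Nat.card Q - 1) := by
          rw [hcard]
          exact Nat.mul_le_mul (hker.trans (Finset.prod_le_prod' fun x _ => hblocks x)) hrange
      _ = 4 ^ (n - Nat.card Q + (Nat.card Q - 1)) := by
          rw [Finset.prod_pow_eq_pow_sum, hexp, pow_add]
      _ = 4 ^ (n - 1) := by congr 1; omega

end Cfsg.Agent.ClassPrime
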